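import Mathlib

/-!
# Groups whose Sylow `2`-subgroup has a unique involution: elementary facts

* `quaternion_unique_involution` : uniqueness of the involution of a generalized quaternion group
* `eq_of_commute` : commuting involutions are equal
* `isConj_of_involution` : all involutions are conjugate
* `not_four_dvd_orderOf_mul` : the order of a product of two involutions is not divisible by `4`
-/

set_option autoImplicit false

namespace Cfsg.Agent.CharDeep.QuatSylowBasic

open scoped Pointwise

theorem quaternion_unique_involution (n : ℕ) (x y : QuaternionGroup (2 ^ n))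
    (hx : orderOf x = 2) (hy : orderOf y = 2) : x = y := by
  have : NeZero (2 ^ n) := ⟨by positivity⟩
  have key : ∀ x : QuaternionGroup (2 ^ n), orderOf x = 2 →
      x = QuaternionGroup.a ((2 ^ n : ℕ) : ZMod (2 * 2 ^ n)) := by
    intro x hx
    cases x with
    | a i =>
      have h2 : (QuaternionGroup.a i : QuaternionGroup (2 ^ n)) ^ 2 = 1 := 
        orderOf_dvd_iff_pow_eq_one.1 (dvd_of_eq hx)
      have h1 : (QuaternionGroup.a i : QuaternionGroup (2 ^ n)) ≠ 1 := by
        intro h
        rw [h, orderOf_one] at hx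
        omega
      rw [pow_two, QuaternionGroup.a_mul_a, QuaternionGroup.one_def] at h2
      have h3 : i + i = 0 := by
        injection h2
      congr 1
      have h4 : ((i.val + i.val : ℕ) : ZMod (2 * 2 ^ n)) = 0 := by
        rw [Nat.cast_add, ZMod.natCast_zmod_val, h3]
      rw [ZMod.natCast_eq_zero_iff] at h4
      have h5 : 2 ^ n ∣ i.val :=
        Nat.dvd_of_mul_dvd_mul_left (by norm_num : 0 < 2) (by rwa [two_mul i.val])
      obtain ⟨k, hk⟩ := h5
      have hlt : i.val < 2 * 2 ^ n := ZMod.val_lt i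
      have hk2 : k < 2 := by
        rw [hk, Nat.mul_comm 2] at hlt
        exact Nat.lt_of_mul_lt_mul_left hlt
      have hk0 : k ≠ 0 := by
        rintro rfl
        rw [mul_zero, ZMod.val_eq_zero] at hk
        apply h1
        rw [hk, QuaternionGroup.one_def]
      have hk1 : k = 1 := by omega
      subst hk1
      rw [← ZMod.natCast_zmod_val i, hk, mul_one]
    | xa i =>
      rw [QuaternionGroup.orderOf_xa] at hx
      omega
  rw [key x hx, key y hy]

section

variable {G : Type*} [Group G] [Finite G]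

omit [Finite G] in
/-- Uniqueness of the involution in a Sylow subgroup isomorphic to a generalized quaternion
group. -/
theorem unique_of_equiv {S : Subgroup G} {n : ℕ} (e : S ≃* QuaternionGroup (2 ^ n))
    (x y : G) (hxS : x ∈ S) (hyS : y ∈ S) (hx : orderOf x = 2) (hy : orderOf y = 2) : x = y := by
  have h := quaternion_unique_involution n (e ⟨x, hxS⟩) (e ⟨y, hyS⟩)
    (by rw [MulEquiv.orderOf_eq, Subgroup.orderOf_mk, hx])
    (by rw [MulEquiv.orderOf_eq, Subgroup.orderOf_mk, hy])
  have := e.injective h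
  exact congrArg Subtype.val this

/-- A generalized quaternion subgroup has an involution. -/
theorem exists_of_equiv {S : Subgroup G} {n : ℕ} (e : S ≃* QuaternionGroup (2 ^ n)) :
    ∃ z ∈ S, orderOf z = 2 := by
  have : NeZero (2 ^ n) := ⟨by positivity⟩
  have hcard : Nat.card S = 4 * 2 ^ n := by
    rw [Nat.card_congr e.toEquiv, Nat.card_eq_fintype_card, QuaternionGroup.card]
  have : Fact (Nat.Prime 2) := ⟨Nat.prime_two⟩
  obtain ⟨x, hx⟩ := exists_prime_orderOf_dvd_card' (G := S) 2 (by rw [hcard]; omega)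
  refine ⟨x, x.2, ?_⟩
  rw [Subgroup.orderOf_coe, hx]

variable (S : Sylow 2 G)
  (huniq : ∀ x y : G, x ∈ S → y ∈ S → orderOf x = 2 → orderOf y = 2 → x = y)

omit [Finite G] in
theorem orderOf_conj' (g x : G) : orderOf (g * x * g⁻¹) = orderOf x := by
  have := orderOf_injective (MulAut.conj g).toMonoidHom (MulAut.conj g).injective x
  simpa using this

/-- Every `2`-subgroup is conjugate into `S`. -/
theorem exists_conj_mem {P : Subgroup G} (hP : IsPGroup 2 P) : ∃ g : G, ∀ x ∈ P, g * x * g⁻¹ ∈ S := by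
  have : Fact (Nat.Prime 2) := ⟨Nat.prime_two⟩
  obtain ⟨Q, hQ⟩ := hP.exists_le_sylow
  obtain ⟨g, hg⟩ := MulAction.exists_smul_eq G Q S
  refine ⟨g, fun x hx => ?_⟩
  have h1 : g * x * g⁻¹ ∈ MulAut.conj g • (Q : Subgroup G) :=
    Subgroup.smul_mem_pointwise_smul x (MulAut.conj g) (Q : Subgroup G) (hQ hx)
  rw [← hg]
  exact h1

omit [Finite G] in
theorem isPGroup_zpowers {a : G} (ha : orderOf a = 2) : IsPGroup 2 (Subgroup.zpowers a) := by
  apply IsPGroup.of_card (n := 1)
  rw [Nat.card_zpowers, ha, pow_one]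

include huniq

/-- Two commuting involutions are equal. -/
theorem eq_of_commute {a b : G} (ha : orderOf a = 2) (hb : orderOf b = 2) (hab : Commute a b) :
    a = b := by
  have : Fact (Nat.Prime 2) := ⟨Nat.prime_two⟩
  have hle : Subgroup.zpowers a ≤ Subgroup.normalizer ((Subgroup.zpowers b : Subgroup G) : Set G) := by
    rw [Subgroup.zpowers_le]
    apply Subgroup.centralizer_le_normalizer
    rw [Subgroup.mem_centralizer_iff]
    intro h hh
    obtain ⟨k, rfl⟩ := Subgroup.mem_zpowers_iff.1 hh
    exact (hab.zpow_right k).eq.symm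
  have hP := IsPGroup.to_sup_of_normal_right' (isPGroup_zpowers ha) (isPGroup_zpowers hb) hle
  obtain ⟨g, hg⟩ := exists_conj_mem S hP
  have h1 := hg a (Subgroup.mem_sup_left (Subgroup.mem_zpowers a))
  have h2 := hg b (Subgroup.mem_sup_right (Subgroup.mem_zpowers b))
  have h3 := huniq _ _ h1 h2 (by rw [orderOf_conj', ha]) (by rw [orderOf_conj', hb])
  exact mul_left_cancel (mul_right_cancel h3)

/-- All involutions are conjugate. -/
theorem isConj_of_involution {a b : G} (ha : orderOf a = 2) (hb : orderOf b = 2) : IsConj a b := by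
  obtain ⟨g, hg⟩ := exists_conj_mem S (isPGroup_zpowers ha)
  obtain ⟨h, hh⟩ := exists_conj_mem S (isPGroup_zpowers hb)
  have h3 := huniq _ _ (hg a (Subgroup.mem_zpowers a)) (hh b (Subgroup.mem_zpowers b))
    (by rw [orderOf_conj', ha]) (by rw [orderOf_conj', hb])
  have e1 : IsConj a (g * a * g⁻¹) := isConj_iff.2 ⟨g, rfl⟩
  have e2 : IsConj b (h * b * h⁻¹) := isConj_iff.2 ⟨h, rfl⟩
  rw [h3] at e1
  exact e1.trans e2.symm

/-- The order of a product of two involutions is not divisible by `4`. -/
theorem not_four_dvd_orderOf_mul {a b : G} (ha : orderOf a = 2) (hb : orderOf b = 2) :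
    ¬ 4 ∣ orderOf (a * b) := by
  intro h4
  have ha2 : a * a = 1 := by rw [← pow_two, ← ha, pow_orderOf_eq_one]
  have hb2 : b * b = 1 := by rw [← pow_two, ← hb, pow_orderOf_eq_one]
  have hainv : a⁻¹ = a := inv_eq_of_mul_eq_one_left ha2
  have hbinv : b⁻¹ = b := inv_eq_of_mul_eq_one_left hb2
  have hinv : a * (a * b) * a⁻¹ = (a * b)⁻¹ := by
    rw [mul_inv_rev, hainv, hbinv, ← mul_assoc, ha2, one_mul]
  obtain ⟨k, hk⟩ := h4
  have hpos : 0 < orderOf (a * b) := orderOf_pos _
  have hz : orderOf ((a * b) ^ (2 * k)) = 2 := by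
    rw [orderOf_pow_of_dvd (by rintro h; rw [hk] at hpos; omega) ⟨2, by rw [hk]; ring⟩, hk]
    rw [show 4 * k = 2 * (2 * k) by ring]
    exact Nat.mul_div_cancel _ (by omega)
  have hz2 : ((a * b) ^ (2 * k))⁻¹ = (a * b) ^ (2 * k) := by
    apply inv_eq_of_mul_eq_one_left
    rw [← pow_two]
    have h5 := pow_orderOf_eq_one ((a * b) ^ (2 * k))
    rwa [hz] at h5
  have hcomm : Commute a ((a * b) ^ (2 * k)) := by
    have h5 : a * (a * b) ^ (2 * k) * a⁻¹ = (a * b) ^ (2 * k) := by
      rw [← conj_pow, hinv, inv_pow, hz2]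
    exact mul_inv_eq_iff_eq_mul.1 h5
  have heq := eq_of_commute S huniq ha hz hcomm
  have hc2 : Commute a (a * b) := by
    have : Commute ((a * b) ^ (2 * k)) (a * b) := (Commute.refl (a * b)).pow_left _
    rwa [← heq] at this
  have hsq : (a * b) ^ 2 = 1 := by
    have h7 : a * (a * b) * a⁻¹ = a * b := by
      rw [hc2.eq, mul_assoc, mul_inv_cancel, mul_one]
    rw [h7] at hinv
    rw [pow_two]
    nth_rewrite 1 [hinv]
    exact inv_mul_cancel _
  have := orderOf_dvd_of_pow_eq_one hsq
  rw [hk] at this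
  have := Nat.le_of_dvd (by norm_num) this
  omega

end

end Cfsg.Agent.CharDeep.QuatSylowBasic
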