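import Mathlib
import Cfsg.Prelude.Def_Characters
import Cfsg.Agent.Characters.Core
import Cfsg.Agent.Characters.Central
import Cfsg.Agent.Characters.Values

/-!
# The Feit–Thompson degree bound

`H` an abelian subgroup of the finite group `G`, meeting the centre trivially, such that for every
non-central `g` the centralizer of `g` meets at most one conjugate of `H` nontrivially.  Then
`χ(1)² > |H| · ⟨χ_H, 1⟩²` for every irreducible `χ` with `H` not in its kernel.
-/

set_option autoImplicit false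

open scoped ComplexConjugate
open Cfsg

namespace Cfsg.Agent.CharDeep.DegreeBound

section Projection

variable {N V : Type*} [Group N] [AddCommGroup V] [Module ℂ V] [FiniteDimensional ℂ V]

/-- The character of the kernel of an invariant projection `e`: `n ↦ tr (ρ n) - tr (e ρ n)`. -/
theorem isCharacter_compl (ρ : Representation ℂ N V) (e : Module.End ℂ V) (he : e * e = e)
    (hc : ∀ n, e * ρ n = ρ n * e) :
    IsCharacter N (fun n => LinearMap.trace ℂ V (ρ n) - LinearMap.trace ℂ V (e * ρ n)) := by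
  have hker : ∀ v : V, v - e v ∈ LinearMap.ker e := by
    intro v
    rw [LinearMap.mem_ker, map_sub]
    have : e (e v) = e v := congrArg (fun f : Module.End ℂ V => f v) he
    rw [this, sub_self]
  let p : V →ₗ[ℂ] LinearMap.ker e :=
    LinearMap.codRestrict (LinearMap.ker e) (1 - e) (fun v => hker v)
  let i : LinearMap.ker e →ₗ[ℂ] V := (LinearMap.ker e).subtype
  have hip : i ∘ₗ p = 1 - e := by
    ext v; rfl
  have hpi : p ∘ₗ i = LinearMap.id := by
    ext v
    change (v : V) - e (v : V) = v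
    rw [LinearMap.mem_ker.1 v.2, sub_zero]
  have hei : e ∘ₗ i = 0 := by
    ext v
    exact LinearMap.mem_ker.1 v.2
  have hpe : p ∘ₗ e = 0 := by
    ext v
    change e v - e (e v) = 0
    have : e (e v) = e v := congrArg (fun f : Module.End ℂ V => f v) he
    rw [this, sub_self]
  let σ : Representation ℂ N (LinearMap.ker e) :=
    { toFun := fun n => p ∘ₗ (ρ n) ∘ₗ i
      map_one' := by
        rw [map_one]
        exact hpi
      map_mul' := by
        intro n m
        apply LinearMap.ext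
        intro v
        change p (ρ (n * m) (i v)) = p (ρ n (i (p (ρ m (i v)))))
        have h1 : i (p (ρ m (i v))) = ρ m (i v) - e (ρ m (i v)) := by
          have := congrArg (fun f : V →ₗ[ℂ] V => f (ρ m (i v))) hip
          simpa using this
        have h2 : e (ρ m (i v)) = 0 := by
          have h3 : (e * ρ m) (i v) = (ρ m * e) (i v) := by rw [hc m]
          have h4 : e (i v) = 0 := LinearMap.mem_ker.1 v.2
          change e (ρ m (i v)) = ρ m (e (i v)) at h3
          rw [h3, h4, map_zero]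
        rw [h1, h2, sub_zero, map_mul]
        rfl }
  have hσ : σ.character = fun n => LinearMap.trace ℂ V (ρ n) - LinearMap.trace ℂ V (e * ρ n) := by
    funext n
    change LinearMap.trace ℂ _ (p ∘ₗ ((ρ n) ∘ₗ i)) = _
    rw [LinearMap.trace_comp_comm', LinearMap.comp_assoc, hip, ← map_sub]
    have : (ρ n ∘ₗ (1 - e) : Module.End ℂ V) = ρ n - e * ρ n := by
      rw [hc n]
      ext v
      simp
    rw [this]
  rw [← hσ]
  exact Characters.Core.isCharacter_of_rep σ

/-- If the projection is not the identity, the character above is nonzero. -/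
theorem compl_one_ne_zero (e : Module.End ℂ V) (he : e * e = e) (h1 : e ≠ 1) :
    LinearMap.trace ℂ V (1 : Module.End ℂ V) - LinearMap.trace ℂ V e ≠ 0 := by
  rw [← map_sub]
  have hidem : IsIdempotentElem (1 - e) := by
    change (1 - e) * (1 - e) = 1 - e
    rw [mul_sub, sub_mul, sub_mul, he]
    simp
  intro h
  have := LinearMap.IsIdempotentElem.eq_zero_of_trace_eq_zero hidem h
  exact h1 (sub_eq_zero.1 this).symm

end Projection

section Avg

variable {G : Type*} [Group G]

/-- The average of `χ` over the coset `H g`. -/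
noncomputable def avg (H : Subgroup G) [Fintype H] (χ : G → ℂ) (g : G) : ℂ :=
  (Nat.card H : ℂ)⁻¹ * ∑ h : H, χ (h * g)

theorem avg_def (H : Subgroup G) [Fintype H] (χ : G → ℂ) (g : G) :
    avg H χ g = (Nat.card H : ℂ)⁻¹ * ∑ h : H, χ (h * g) := rfl

theorem avg_mul_left (H : Subgroup G) [Fintype H] (χ : G → ℂ) (k : H) (g : G) :
    avg H χ (k * g) = avg H χ g := by
  rw [avg_def, avg_def]
  congr 1
  refine Fintype.sum_equiv (Equiv.mulRight k) _ _ fun h => ?_
  simp only [Equiv.coe_mulRight, Subgroup.coe_mul, mul_assoc]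

theorem avg_one (H : Subgroup G) [Fintype H] (χ : G → ℂ) :
    avg H χ 1 = classInner (fun h : H => χ h) (fun _ => 1) := by
  rw [avg_def]
  simp [classInner]

/-- The averaged function is orthogonal to the difference, over any subgroup containing `H`. -/
theorem sum_sq_eq (H N : Subgroup G) [Fintype H] [Fintype N] (hHN : H ≤ N) (χ : G → ℂ) :
    ∑ n : N, ‖χ n‖ ^ 2 = ∑ n : N, ‖χ n - avg H χ n‖ ^ 2 + ∑ n : N, ‖avg H χ n‖ ^ 2 := by
  -- the inner product of `χ` with the average is the norm of the average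
  have key : ∑ n : N, χ n * conj (avg H χ n) = ∑ n : N, avg H χ n * conj (avg H χ n) := by
    have h1 : ∀ h : H, ∑ n : N, χ n * conj (avg H χ n) =
        ∑ n : N, χ (h * n) * conj (avg H χ n) := by
      intro h
      refine (Fintype.sum_equiv (Equiv.mulLeft (⟨h, hHN h.2⟩ : N)) _ _ fun n => ?_).symm
      simp only [Equiv.coe_mulLeft, Subgroup.coe_mul]
      rw [avg_mul_left]
    have hcard : (Nat.card H : ℂ) ≠ 0 := by exact_mod_cast Nat.card_pos.ne'
    have h2 : (Nat.card H : ℂ) * ∑ n : N, χ n * conj (avg H χ n) =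
        (Nat.card H : ℂ) * ∑ n : N, avg H χ n * conj (avg H χ n) := by
      have h3 : (Nat.card H : ℂ) * ∑ n : N, χ n * conj (avg H χ n) =
          ∑ h : H, ∑ n : N, χ (h * n) * conj (avg H χ n) := by
        rw [← Finset.sum_congr rfl (fun h _ => h1 h), Finset.sum_const, Finset.card_univ,
          Fintype.card_eq_nat_card, nsmul_eq_mul]
      rw [h3, Finset.sum_comm, Finset.mul_sum]
      refine Finset.sum_congr rfl fun n _ => ?_
      rw [← Finset.sum_mul, ← mul_assoc]
      congr 1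
      rw [avg_def, ← mul_assoc, mul_inv_cancel₀ hcard, one_mul]
    exact mul_left_cancel₀ hcard h2
  have hre : ∑ n : N, (χ n * conj (avg H χ n)).re = ∑ n : N, ‖avg H χ n‖ ^ 2 := by
    have := congrArg Complex.re key
    rw [Complex.re_sum, Complex.re_sum] at this
    rw [this]
    refine Finset.sum_congr rfl fun n _ => ?_
    rw [Complex.mul_conj, Complex.normSq_eq_norm_sq]
    exact Complex.ofReal_re _
  have hpt : ∀ n : N, ‖χ n - avg H χ n‖ ^ 2 =
      ‖χ n‖ ^ 2 + ‖avg H χ n‖ ^ 2 - 2 * (χ n * conj (avg H χ n)).re := by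
    intro n
    rw [← Complex.normSq_eq_norm_sq, ← Complex.normSq_eq_norm_sq, ← Complex.normSq_eq_norm_sq,
      Complex.normSq_sub]
  rw [Finset.sum_congr rfl (fun n _ => hpt n), Finset.sum_sub_distrib, Finset.sum_add_distrib,
    ← Finset.mul_sum, hre]
  ring

end Avg


section Grp

variable {G : Type*} [Group G]

/-- Non-central elements centralizing some nontrivial element of `H`. -/
def setA (H : Subgroup G) : Set G :=
  {g | g ∉ Subgroup.center G ∧ ∃ k ∈ H, k ≠ 1 ∧ k * g = g * k}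

theorem mem_setA {H : Subgroup G} {g : G} :
    g ∈ setA H ↔ g ∉ Subgroup.center G ∧ ∃ k ∈ H, k ≠ 1 ∧ k * g = g * k := Iff.rfl

theorem inf_centralizer_ne_bot {K : Subgroup G} {g k : G} (hk : k ∈ K) (hk1 : k ≠ 1)
    (hc : k * g = g * k) : Subgroup.centralizer ({g} : Set G) ⊓ K ≠ ⊥ := by
  intro h
  apply hk1
  have : k ∈ Subgroup.centralizer ({g} : Set G) ⊓ K :=
    ⟨Subgroup.mem_centralizer_singleton_iff.2 hc, hk⟩
  rw [h] at this
  exact Subgroup.mem_bot.1 this

variable {H : Subgroup G}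

theorem map_conj_eq_of (hone : ∀ g : G, g ∉ Subgroup.center G → ∀ a b : G,
      Subgroup.centralizer ({g} : Set G) ⊓ H.map (MulAut.conj a).toMonoidHom ≠ ⊥ →
      Subgroup.centralizer ({g} : Set G) ⊓ H.map (MulAut.conj b).toMonoidHom ≠ ⊥ →
      H.map (MulAut.conj a).toMonoidHom = H.map (MulAut.conj b).toMonoidHom)
    {g a b : G} (ha : a⁻¹ * g * a ∈ setA H) (hb : b⁻¹ * g * b ∈ setA H) :
    a⁻¹ * b ∈ Subgroup.normalizer (H : Set G) := by
  have hg : g ∉ Subgroup.center G := by
    intro hg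
    apply ha.1
    have : a⁻¹ * g * a = g := by
      rw [mul_assoc, ← (Subgroup.mem_center_iff.1 hg a)]
      group
    rw [this]
    exact hg
  have key : ∀ x : G, x⁻¹ * g * x ∈ setA H →
      Subgroup.centralizer ({g} : Set G) ⊓ H.map (MulAut.conj x).toMonoidHom ≠ ⊥ := by
    rintro x ⟨-, k, hk, hk1, hc⟩
    refine inf_centralizer_ne_bot (k := x * k * x⁻¹) ⟨k, hk, rfl⟩ ?_ ?_
    · intro h
      apply hk1
      have := congrArg (fun y => x⁻¹ * y * x) h
      simpa [mul_assoc] using this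
    · have := congrArg (fun y => x * y * x⁻¹) hc
      simpa [mul_assoc] using this
  have h := hone g hg a b (key a ha) (key b hb)
  rw [Subgroup.mem_normalizer_iff_map_conj_eq]
  have h2 := congrArg (fun K : Subgroup G => K.map (MulAut.conj a⁻¹).toMonoidHom) h
  simp only [Subgroup.map_map] at h2
  have e1 : (MulAut.conj a⁻¹).toMonoidHom.comp (MulAut.conj a).toMonoidHom = MonoidHom.id G := by
    ext x; simp [mul_assoc]
  have e2 : (MulAut.conj a⁻¹).toMonoidHom.comp (MulAut.conj b).toMonoidHom =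
      (MulAut.conj (a⁻¹ * b)).toMonoidHom := by
    ext x; simp [mul_assoc]
  rw [e1, e2, Subgroup.map_id] at h2
  exact h2.symm

theorem setA_subset (hone : ∀ g : G, g ∉ Subgroup.center G → ∀ a b : G,
      Subgroup.centralizer ({g} : Set G) ⊓ H.map (MulAut.conj a).toMonoidHom ≠ ⊥ →
      Subgroup.centralizer ({g} : Set G) ⊓ H.map (MulAut.conj b).toMonoidHom ≠ ⊥ →
      H.map (MulAut.conj a).toMonoidHom = H.map (MulAut.conj b).toMonoidHom)
    {g : G} (hg : g ∈ setA H) : g ∈ Subgroup.normalizer (H : Set G) := by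
  have h := map_conj_eq_of hone (g := g) (a := 1) (b := g) (by simpa using hg) (by simpa using hg)
  simpa using h

/-- `A` is closed under conjugation by the normalizer of `H`. -/
theorem card_le [Finite G] (hone : ∀ g : G, g ∉ Subgroup.center G → ∀ a b : G,
      Subgroup.centralizer ({g} : Set G) ⊓ H.map (MulAut.conj a).toMonoidHom ≠ ⊥ →
      Subgroup.centralizer ({g} : Set G) ⊓ H.map (MulAut.conj b).toMonoidHom ≠ ⊥ →
      H.map (MulAut.conj a).toMonoidHom = H.map (MulAut.conj b).toMonoidHom) (g : G) :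
    Nat.card {x : G // x⁻¹ * g * x ∈ setA H} ≤
      Nat.card (Subgroup.normalizer (H : Set G)) := by
  rcases isEmpty_or_nonempty {x : G // x⁻¹ * g * x ∈ setA H} with h | ⟨⟨x₀, hx₀⟩⟩
  · rw [Nat.card_of_isEmpty]; exact Nat.zero_le _
  · refine Nat.card_le_card_of_injective
      (fun x => (⟨x₀⁻¹ * x.1, map_conj_eq_of hone hx₀ x.2⟩ :
        Subgroup.normalizer (H : Set G))) ?_
    intro x y hxy
    have := congrArg Subtype.val hxy
    exact Subtype.ext (mul_left_cancel this)

/-- For `g` normalizing `H`, not centralizing any nontrivial element of `H`, every element of `H g`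
is conjugate to `g`. -/
theorem exists_conj [Finite H] {g : G}
    (hg : g ∈ Subgroup.normalizer (H : Set G)) (hc : ∀ k ∈ H, k * g = g * k → k = 1)
    (a : G) (ha : a ∈ H) : ∃ h : G, a * g = h * g * h⁻¹ := by
  have hmem : ∀ h : H, (h : G) * (g * (h : G)⁻¹ * g⁻¹) ∈ H := fun h =>
    H.mul_mem h.2 ((Subgroup.mem_normalizer_iff.1 hg _).1 (H.inv_mem h.2))
  let φ : H → H := fun h => ⟨(h : G) * (g * (h : G)⁻¹ * g⁻¹), hmem h⟩
  have hinj : Function.Injective φ := by
    intro h k hhk
    have h1 : (h : G) * (g * (h : G)⁻¹ * g⁻¹) = (k : G) * (g * (k : G)⁻¹ * g⁻¹) :=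
      congrArg Subtype.val hhk
    have h2 : (k : G)⁻¹ * h * g = g * ((k : G)⁻¹ * h) := by
      have h3 : (k : G)⁻¹ * h = (g * (k : G)⁻¹ * g⁻¹) * (g * (h : G)⁻¹ * g⁻¹)⁻¹ := by
        rw [eq_mul_inv_iff_mul_eq, mul_assoc, h1]
        group
      have h4 : (g * (k : G)⁻¹ * g⁻¹) * (g * (h : G)⁻¹ * g⁻¹)⁻¹ = g * ((k : G)⁻¹ * h) * g⁻¹ := by
        group
      rw [h4] at h3
      exact eq_mul_inv_iff_mul_eq.1 h3
    have h5 := hc _ (H.mul_mem (H.inv_mem k.2) h.2) h2
    exact Subtype.ext (inv_mul_eq_one.1 h5).symm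
  obtain ⟨h, hh⟩ := Finite.surjective_of_injective hinj ⟨a, ha⟩
  refine ⟨h, ?_⟩
  have h1 : (h : G) * (g * (h : G)⁻¹ * g⁻¹) = a := congrArg Subtype.val hh
  rw [← h1]
  group

end Grp


section Main

variable {G : Type*} [Group G] [Fintype G]

/-- A character that does not vanish at `1` has norm at least one. -/
theorem card_le_sum_sq {N : Type*} [Group N] [Fintype N] {ψ : N → ℂ} (hψ : IsCharacter N ψ)
    (h1 : ψ 1 ≠ 0) : (Nat.card N : ℝ) ≤ ∑ n, ‖ψ n‖ ^ 2 := by
  obtain ⟨k, hk⟩ := Characters.Core.classInner_isNat hψ hψ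
  have hk0 : k ≠ 0 := by
    rintro rfl
    apply h1
    have := Characters.Core.classInner_self_eq_zero (φ := ψ) (by simpa using hk)
    rw [this]; rfl
  have hcard : (Nat.card N : ℂ) ≠ 0 := by exact_mod_cast Nat.card_pos.ne'
  have h2 : ∑ n, ψ n * conj (ψ n) = (Nat.card N : ℂ) * k := by
    rw [← hk, classInner, ← mul_assoc, mul_inv_cancel₀ hcard, one_mul]
  have h3 : ∑ n, ‖ψ n‖ ^ 2 = (Nat.card N : ℝ) * k := by
    have h4 : ((∑ n, ‖ψ n‖ ^ 2 : ℝ) : ℂ) = ((Nat.card N : ℝ) * k : ℝ) := by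
      push_cast
      rw [← h2]
      refine Finset.sum_congr rfl fun n _ => ?_
      rw [Complex.mul_conj, Complex.normSq_eq_norm_sq]
      push_cast
      rfl
    exact_mod_cast h4
  rw [h3]
  have : (1 : ℝ) ≤ k := by exact_mod_cast Nat.one_le_iff_ne_zero.2 hk0
  have hpos : (0 : ℝ) ≤ Nat.card N := Nat.cast_nonneg _
  nlinarith

theorem sum_sq_irr {χ : G → ℂ} (hχ : IsIrrCharacter G χ) :
    ∑ g, ‖χ g‖ ^ 2 = (Nat.card G : ℝ) := by
  have hcard : (Nat.card G : ℂ) ≠ 0 := by exact_mod_cast Nat.card_pos.ne'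
  have h1 := Characters.Core.classInner_irr_self hχ
  have h2 : ∑ n, χ n * conj (χ n) = (Nat.card G : ℂ) := by
    rw [classInner] at h1
    rwa [inv_mul_eq_one₀ hcard, eq_comm] at h1
  have h4 : ((∑ n, ‖χ n‖ ^ 2 : ℝ) : ℂ) = ((Nat.card G : ℝ) : ℂ) := by
    push_cast
    rw [← h2]
    refine Finset.sum_congr rfl fun n _ => ?_
    rw [Complex.mul_conj, Complex.normSq_eq_norm_sq]
    push_cast
    rfl
  exact_mod_cast h4

/-- central elements: `χ (g z) = ω χ g` with `‖ω‖ = 1`. -/
theorem exists_omega {χ : G → ℂ} (hχ : IsIrrCharacter G χ) {z : G}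
    (hz : z ∈ Subgroup.center G) : ∃ w : ℂ, ‖w‖ = 1 ∧ ∀ g, χ (g * z) = w * χ g := by
  obtain ⟨n, ρ, hρ, rfl⟩ := hχ
  obtain ⟨w, hw⟩ := Characters.Central.exists_smul_of_comm ρ hρ (ρ z) (by
    intro g
    rw [← map_mul, ← map_mul, Subgroup.mem_center_iff.1 hz g])
  refine ⟨w, ?_, ?_⟩
  · have hpow : (ρ z) ^ (Nat.card G) = 1 := by
      rw [← map_pow, pow_card_eq_one', map_one]
    rw [hw, smul_pow, one_pow] at hpow
    have hpos := Characters.Central.finrank_pos_of_irr ρ hρ
    have : Nontrivial (Fin n → ℂ) := Module.nontrivial_of_finrank_pos hpos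
    obtain ⟨v, hv⟩ := exists_ne (0 : Fin n → ℂ)
    have h1 : w ^ Nat.card G • v = v := by
      have := congrArg (fun f : Module.End ℂ (Fin n → ℂ) => f v) hpow
      simpa using this
    have h2 : w ^ Nat.card G = 1 := by
      have h4 : (w ^ (Nat.card G) - 1) • v = 0 := by rw [sub_smul, one_smul, h1, sub_self]
      rcases smul_eq_zero.1 h4 with h | h
      · exact sub_eq_zero.1 h
      · exact absurd h hv
    exact Complex.norm_eq_one_of_pow_eq_one h2 Nat.card_pos.ne'
  · intro g
    change LinearMap.trace ℂ _ (ρ (g * z)) = w * LinearMap.trace ℂ _ (ρ g)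
    rw [map_mul, hw, mul_smul_comm, mul_one, map_smul, smul_eq_mul]

/-- The complement of the averaged character is a nonzero character of any subgroup normalizing
`H`. -/
theorem compl_isCharacter (H N : Subgroup G) [Fintype H] (hN : N ≤ Subgroup.normalizer (H : Set G))
    {χ : G → ℂ} (hχ : IsIrrCharacter G χ) (hker : ∃ h ∈ H, χ h ≠ χ 1) :
    IsCharacter N (fun n : N => χ n - avg H χ n) ∧ χ 1 - avg H χ 1 ≠ 0 := by
  obtain ⟨n, ρ, hρ, rfl⟩ := hχ
  have hcard : (Nat.card H : ℂ) ≠ 0 := by exact_mod_cast Nat.card_pos.ne'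
  set e : Module.End ℂ (Fin n → ℂ) := (Nat.card H : ℂ)⁻¹ • ∑ h : H, ρ (h : G) with he
  have hρe : ∀ h : H, ρ (h : G) * e = e := by
    intro h
    rw [he, mul_smul_comm, Finset.mul_sum]
    congr 1
    refine Fintype.sum_equiv (Equiv.mulLeft h) _ _ fun k => ?_
    rw [← map_mul]
    rfl
  have hee : e * e = e := by
    have : e * e = (Nat.card H : ℂ)⁻¹ • ∑ h : H, (ρ (h : G) * e) := by
      conv_lhs => rw [he]
      rw [smul_mul_assoc, Finset.sum_mul, ← he]
    rw [this, Finset.sum_congr rfl (fun h _ => hρe h), Finset.sum_const, Finset.card_univ,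
      Fintype.card_eq_nat_card, ← Nat.cast_smul_eq_nsmul ℂ, smul_smul, inv_mul_cancel₀ hcard,
      one_smul]
  have htr : ∀ g : G, LinearMap.trace ℂ _ (e * ρ g) = avg H ρ.character g := by
    intro g
    rw [he, smul_mul_assoc, map_smul, Finset.sum_mul, map_sum, avg_def, smul_eq_mul]
    congr 1
    refine Finset.sum_congr rfl fun h _ => ?_
    rw [← map_mul]
    rfl
  have hcomm : ∀ g ∈ Subgroup.normalizer (H : Set G), e * ρ g = ρ g * e := by
    intro g hg
    rw [he, smul_mul_assoc, mul_smul_comm, Finset.sum_mul, Finset.mul_sum]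
    congr 1
    have hg' := Subgroup.mem_normalizer_iff.1 hg
    let E : H ≃ H :=
      { toFun := fun h => ⟨g * h * g⁻¹, (hg' h).1 h.2⟩
        invFun := fun h => ⟨g⁻¹ * h * g, (Subgroup.mem_normalizer_iff''.1 hg h).1 h.2⟩
        left_inv := fun h => by ext; simp [mul_assoc]
        right_inv := fun h => by ext; simp [mul_assoc] }
    refine (Fintype.sum_equiv E _ _ fun h => ?_).symm
    rw [← map_mul, ← map_mul]
    congr 1
    change g * h = g * h * g⁻¹ * g
    group
  constructor
  · have := isCharacter_compl (ρ.comp N.subtype) e hee (fun m => hcomm m (hN m.2))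
    convert this using 1
    funext m
    change ρ.character m - avg H ρ.character m = LinearMap.trace ℂ _ (ρ m) - _
    rw [← htr]
    rfl
  · have h1 : e ≠ 1 := by
      intro h
      obtain ⟨k, hk, hne⟩ := hker
      apply hne
      have h2 := hρe ⟨k, hk⟩
      rw [h, mul_one] at h2
      change ρ k = 1 at h2
      change LinearMap.trace ℂ _ (ρ k) = LinearMap.trace ℂ _ (ρ 1)
      rw [h2, map_one ρ]
    have h3 := compl_one_ne_zero e hee h1
    have h4 := htr 1
    rw [map_one, mul_one] at h4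
    rw [← h4]
    change LinearMap.trace ℂ _ (ρ 1) - _ ≠ 0
    rw [map_one ρ]
    exact h3


/-- Double counting over the conjugates of `A`. -/
theorem card_mul_sum_le {H : Subgroup G} [DecidablePred (· ∈ setA H)]
    [DecidablePred (· ∈ Subgroup.center G)]
    (hone : ∀ g : G, g ∉ Subgroup.center G → ∀ a b : G,
      Subgroup.centralizer ({g} : Set G) ⊓ H.map (MulAut.conj a).toMonoidHom ≠ ⊥ →
      Subgroup.centralizer ({g} : Set G) ⊓ H.map (MulAut.conj b).toMonoidHom ≠ ⊥ →
      H.map (MulAut.conj a).toMonoidHom = H.map (MulAut.conj b).toMonoidHom)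
    {χ : G → ℂ} (hχ : IsClassFunction G χ) :
    (Nat.card G : ℝ) * ∑ g with g ∈ setA H, ‖χ g‖ ^ 2 ≤
      (Nat.card (Subgroup.normalizer (H : Set G)) : ℝ) *
        ∑ g with g ∉ Subgroup.center G, ‖χ g‖ ^ 2 := by
  classical
  have h1 : (Nat.card G : ℝ) * ∑ g with g ∈ setA H, ‖χ g‖ ^ 2 =
      ∑ x : G, ∑ g : G, if x⁻¹ * g * x ∈ setA H then ‖χ g‖ ^ 2 else 0 := by
    have : ∀ x : G, (∑ g : G, if x⁻¹ * g * x ∈ setA H then ‖χ g‖ ^ 2 else 0) =
        ∑ g with g ∈ setA H, ‖χ g‖ ^ 2 := by
      intro x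
      rw [Finset.sum_filter]
      refine Fintype.sum_equiv (MulAut.conj x⁻¹).toEquiv _ _ fun g => ?_
      simp only [MulEquiv.toEquiv_eq_coe, EquivLike.coe_coe, MulAut.conj_apply, inv_inv]
      have h2 : χ (x⁻¹ * g * x) = χ g := by
        have := hχ g x⁻¹
        rwa [inv_inv] at this
      rw [h2]
    rw [Finset.sum_congr rfl (fun x _ => this x), Finset.sum_const, Finset.card_univ,
      Fintype.card_eq_nat_card, nsmul_eq_mul]
  rw [h1, Finset.sum_comm, Finset.sum_filter, Finset.mul_sum]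
  refine Finset.sum_le_sum fun g _ => ?_
  by_cases hg : g ∈ Subgroup.center G
  · have : ∀ x : G, ¬ (x⁻¹ * g * x ∈ setA H) := by
      intro x hx
      apply hx.1
      have e : x⁻¹ * g * x = g := by
        rw [mul_assoc, ← (Subgroup.mem_center_iff.1 hg x)]
        group
      rw [e]
      exact hg
    simp [this, hg]
  · rw [if_pos hg, ← Finset.sum_filter, Finset.sum_const, nsmul_eq_mul]
    have h3 := card_le (H := H) hone g
    rw [Nat.card_eq_fintype_card, Fintype.card_subtype] at h3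
    have h4 : ((Finset.univ.filter (fun x : G => x⁻¹ * g * x ∈ setA H)).card : ℝ) ≤
        (Nat.card (Subgroup.normalizer (H : Set G)) : ℝ) := by
      exact_mod_cast h3
    exact mul_le_mul_of_nonneg_right h4 (by positivity)

/-- The degree bound, first part. -/
theorem degree_bound (H : Subgroup G) [Fintype H] (hZ : H ⊓ Subgroup.center G = ⊥)
    (hone : ∀ g : G, g ∉ Subgroup.center G → ∀ a b : G,
      Subgroup.centralizer ({g} : Set G) ⊓ H.map (MulAut.conj a).toMonoidHom ≠ ⊥ →
      Subgroup.centralizer ({g} : Set G) ⊓ H.map (MulAut.conj b).toMonoidHom ≠ ⊥ →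
      H.map (MulAut.conj a).toMonoidHom = H.map (MulAut.conj b).toMonoidHom)
    (χ : G → ℂ) (hχ : IsIrrCharacter G χ) (hker : ∃ h ∈ H, χ h ≠ χ 1) :
    (Nat.card H : ℝ) * ‖classInner (fun h : H => χ h) (fun _ => 1)‖ ^ 2 < ‖χ 1‖ ^ 2 := by
  classical
  have hcl : IsClassFunction G χ := Characters.Core.isIrr_isClassFunction hχ
  set N := Subgroup.normalizer (H : Set G) with hN
  obtain ⟨hψ, hψ1⟩ := compl_isCharacter H N le_rfl hχ hker
  -- the four sums
  have h1 : (Nat.card N : ℝ) ≤ ∑ n : N, ‖χ n - avg H χ n‖ ^ 2 := card_le_sum_sq hψ hψ1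
  have h2 := sum_sq_eq H N Subgroup.le_normalizer χ
  -- sum over `N` of the difference
  have hconst : ∀ g ∈ N, g ∉ setA H → g ∉ Subgroup.center G → avg H χ g = χ g := by
    intro g hg hgA hgZ
    have hc : ∀ k ∈ H, k * g = g * k → k = 1 := by
      intro k hk hkg
      by_contra hk1
      exact hgA ⟨hgZ, k, hk, hk1, hkg⟩
    have h3 : ∀ h : H, χ (h * g) = χ g := by
      intro h
      obtain ⟨x, hx⟩ := exists_conj hg hc h h.2
      rw [hx]
      exact hcl g x
    have hcard : (Nat.card H : ℂ) ≠ 0 := by exact_mod_cast Nat.card_pos.ne'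
    rw [avg_def, Finset.sum_congr rfl (fun h _ => h3 h), Finset.sum_const, Finset.card_univ,
      Fintype.card_eq_nat_card, nsmul_eq_mul, ← mul_assoc, inv_mul_cancel₀ hcard, one_mul]
  have hcenN : ∀ g ∈ Subgroup.center G, g ∈ N := by
    intro g hg
    rw [hN, Subgroup.mem_normalizer_iff]
    intro h
    have : g * h * g⁻¹ = h := by
      rw [← Subgroup.mem_center_iff.1 hg h]
      group
    rw [this]
  have h4 : ∑ n : N, (‖χ n‖ ^ 2 - ‖avg H χ n‖ ^ 2) =
      ∑ g with (g ∈ setA H ∨ g ∈ Subgroup.center G), (‖χ g‖ ^ 2 - ‖avg H χ g‖ ^ 2) := by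
    have h5 : ∑ n : N, (‖χ n‖ ^ 2 - ‖avg H χ n‖ ^ 2) =
        ∑ g with g ∈ N, (‖χ g‖ ^ 2 - ‖avg H χ g‖ ^ 2) := by
      rw [← Finset.sum_subtype (Finset.univ.filter (· ∈ N)) (by simp)
        (fun g => ‖χ g‖ ^ 2 - ‖avg H χ g‖ ^ 2)]
    rw [h5]
    symm
    apply Finset.sum_subset
    · intro g hg
      simp only [Finset.mem_filter, Finset.mem_univ, true_and] at hg ⊢
      rcases hg with hg | hg
      · exact setA_subset hone hg
      · exact hcenN g hg
    · intro g hg hg'
      simp only [Finset.mem_filter, Finset.mem_univ, true_and, not_or] at hg hg'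
      rw [hconst g hg hg'.1 hg'.2, sub_self]
  rw [Finset.sum_sub_distrib, Finset.sum_sub_distrib] at h4
  -- the sum of the squares of the average over `A ∪ Z`
  have h6 : (Nat.card H : ℝ) * (Nat.card (Subgroup.center G) : ℝ) *
      ‖classInner (fun h : H => χ h) (fun _ => 1)‖ ^ 2 ≤
      ∑ g with (g ∈ setA H ∨ g ∈ Subgroup.center G), ‖avg H χ g‖ ^ 2 := by
    have hinj : Function.Injective (fun p : H × Subgroup.center G => (p.1 : G) * (p.2 : G)) := by
      rintro ⟨h, z⟩ ⟨h', z'⟩ hh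
      change (h : G) * z = h' * z' at hh
      have e1 : (h' : G)⁻¹ * h = z' * (z : G)⁻¹ := by
        rw [eq_mul_inv_iff_mul_eq, mul_assoc, hh]
        group
      have e2 : (h' : G)⁻¹ * h ∈ H ⊓ Subgroup.center G :=
        ⟨H.mul_mem (H.inv_mem h'.2) h.2, by
          rw [e1]
          exact (Subgroup.center G).mul_mem z'.2 ((Subgroup.center G).inv_mem z.2)⟩
      rw [hZ, Subgroup.mem_bot] at e2
      have e3 : (h' : G) = h := inv_mul_eq_one.1 e2
      rw [e2] at e1
      have e4 : (z' : G) = z := (mul_inv_eq_one.1 e1.symm)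
      exact Prod.ext (Subtype.ext e3.symm) (Subtype.ext e4.symm)
    have hval : ∀ p : H × Subgroup.center G, ‖avg H χ ((p.1 : G) * (p.2 : G))‖ ^ 2 =
        ‖classInner (fun h : H => χ h) (fun _ => 1)‖ ^ 2 := by
      rintro ⟨h, z⟩
      change ‖avg H χ ((h : G) * (z : G))‖ ^ 2 = _
      obtain ⟨w, hw, hw'⟩ := exists_omega hχ z.2
      rw [avg_mul_left, ← avg_one]
      have : avg H χ z = w * avg H χ 1 := by
        rw [avg_def, avg_def, Finset.sum_congr rfl (fun (h : H) _ => hw' (h : G)),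
          ← Finset.mul_sum]
        simp only [mul_one]
        ring
      rw [this, norm_mul, hw, one_mul]
    have hsub : Finset.univ.image (fun p : H × Subgroup.center G => (p.1 : G) * (p.2 : G)) ⊆
        Finset.univ.filter (fun g => g ∈ setA H ∨ g ∈ Subgroup.center G) := by
      intro g hg
      simp only [Finset.mem_image, Finset.mem_univ, true_and] at hg
      obtain ⟨⟨h, z⟩, rfl⟩ := hg
      simp only [Finset.mem_filter, Finset.mem_univ, true_and]
      by_cases hh : (h : G) * z ∈ Subgroup.center G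
      · exact Or.inr hh
      · refine Or.inl ⟨hh, h, h.2, ?_, ?_⟩
        · intro h1
          apply hh
          rw [h1, one_mul]
          exact z.2
        · rw [mul_assoc, ← Subgroup.mem_center_iff.1 z.2 (h : G)]
    refine le_trans (le_of_eq ?_)
      (Finset.sum_le_sum_of_subset_of_nonneg hsub (fun g _ _ => by positivity))
    rw [Finset.sum_image (fun a _ b _ hab => hinj hab), Finset.sum_congr rfl (fun p _ => hval p),
      Finset.sum_const, Finset.card_univ, Fintype.card_prod, nsmul_eq_mul,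
      Fintype.card_eq_nat_card, Fintype.card_eq_nat_card]
    push_cast
    ring
  have h7 : ∑ g with (g ∈ setA H ∨ g ∈ Subgroup.center G), ‖χ g‖ ^ 2 =
      ∑ g with g ∈ setA H, ‖χ g‖ ^ 2 + ∑ g with g ∈ Subgroup.center G, ‖χ g‖ ^ 2 := by
    rw [Finset.filter_or, Finset.sum_union]
    rw [Finset.disjoint_filter]
    intro g _ hg hg'
    exact hg.1 hg'
  have h8 : ∑ g with g ∈ Subgroup.center G, ‖χ g‖ ^ 2 =
      (Nat.card (Subgroup.center G) : ℝ) * ‖χ 1‖ ^ 2 := by
    have : ∀ g ∈ Finset.univ.filter (· ∈ Subgroup.center G), ‖χ g‖ ^ 2 = ‖χ 1‖ ^ 2 := by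
      intro g hg
      simp only [Finset.mem_filter, Finset.mem_univ, true_and] at hg
      obtain ⟨w, hw, hw'⟩ := exists_omega hχ hg
      have := hw' 1
      rw [one_mul] at this
      rw [this, norm_mul, hw, one_mul]
    rw [Finset.sum_congr rfl this, Finset.sum_const, nsmul_eq_mul]
    congr 2
    rw [Nat.card_eq_fintype_card, Fintype.card_subtype]
  have h9 : ∑ g with g ∉ Subgroup.center G, ‖χ g‖ ^ 2 =
      (Nat.card G : ℝ) - (Nat.card (Subgroup.center G) : ℝ) * ‖χ 1‖ ^ 2 := by
    rw [← h8, ← sum_sq_irr hχ, ← Finset.sum_filter_add_sum_filter_not Finset.univ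
      (· ∈ Subgroup.center G) (fun g => ‖χ g‖ ^ 2)]
    ring
  have h10 := card_mul_sum_le hone hcl
  rw [h9] at h10
  have hn : 0 < ‖χ 1‖ := norm_pos_iff.2 (Characters.Central.irr_one_ne_zero hχ)
  have hG : (0 : ℝ) < Nat.card G := by exact_mod_cast Nat.card_pos
  have hNc : (0 : ℝ) < Nat.card N := by exact_mod_cast Nat.card_pos
  have hZc : (0 : ℝ) < Nat.card (Subgroup.center G) := by exact_mod_cast Nat.card_pos
  set cG : ℝ := (Nat.card G : ℝ)
  set cN : ℝ := (Nat.card N : ℝ)
  set cZ : ℝ := (Nat.card (Subgroup.center G) : ℝ)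
  set cH : ℝ := (Nat.card H : ℝ)
  set SA : ℝ := ∑ g with g ∈ setA H, ‖χ g‖ ^ 2
  set S' : ℝ := ∑ g with (g ∈ setA H ∨ g ∈ Subgroup.center G), ‖avg H χ g‖ ^ 2
  set c : ℝ := ‖classInner (fun h : H => χ h) (fun _ => 1)‖
  set n : ℝ := ‖χ 1‖
  have h11 : cN ≤ SA + cZ * n ^ 2 - S' := by
    rw [h7, h8] at h4
    linarith
  have h12 : cN * cG ≤ cN * (cG - cZ * n ^ 2) + cG * (cZ * n ^ 2) - cG * (cH * cZ * c ^ 2) := by
    have h13 : cG * cN ≤ cG * (SA + cZ * n ^ 2 - cH * cZ * c ^ 2) :=
      mul_le_mul_of_nonneg_left (by linarith) hG.le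
    linarith
  have h14 : cG * cZ * (cH * c ^ 2) ≤ cG * cZ * n ^ 2 - cN * cZ * n ^ 2 := by linarith
  have h15 : 0 < cN * cZ * n ^ 2 := by positivity
  have h16 : cG * cZ * (cH * c ^ 2) < cG * cZ * n ^ 2 := by linarith
  exact lt_of_mul_lt_mul_left h16 (by positivity)

end Main

end Cfsg.Agent.CharDeep.DegreeBound
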