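import Mathlib
import Cfsg.Prelude.Def_Characters
import Cfsg.Agent.Characters.Core
import Cfsg.Agent.Characters.Clifford
import Cfsg.Agent.CharDeep.CliffordCorr
import Cfsg.Agent.S0181
import Cfsg.Agent.S0135

/-!
# Irreducible characters of a group with a Frobenius kernel

`L` is a finite group with a normal subgroup `K` containing the centralizers of its non-identity
elements.  `hC : ∀ k ∈ K, k ≠ 1 → ∀ g : L, g * k = k * g → g ∈ K`.
-/

set_option autoImplicit false
open Cfsg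

namespace Cfsg.Agent.CharDeep.FrobKernel

open Cfsg.Agent.Characters.Core Cfsg.Agent.Characters.Clifford
open Cfsg.Agent.CharDeep.CliffordCorr
open scoped ComplexConjugate

section general

variable {L : Type*} [Group L] [Fintype L]

/-- The regular character: `∑ ζ(1) ζ(g)` is `|L|` at `1` and `0` elsewhere. -/
theorem sum_degree_mul_apply [Fintype (IrrCharacter L)] (g : L) [Decidable (g = 1)] :
    ∑ ζ : IrrCharacter L, (ζ : L → ℂ) 1 * (ζ : L → ℂ) g = if g = 1 then (Nat.card L : ℂ) else 0 := by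
  classical
  have hL : (Nat.card L : ℂ) ≠ 0 := Nat.cast_ne_zero.2 Nat.card_pos.ne'
  let u : L → ℂ := fun g => if g = 1 then (Nat.card L : ℂ) else 0
  have hu : IsClassFunction L u := by
    intro g h
    simp only [u]
    have : h * g * h⁻¹ = 1 ↔ g = 1 := by
      constructor
      · intro h1
        have : g = h⁻¹ * (h * g * h⁻¹) * h := by group
        rw [this, h1]; group
      · rintro rfl; group
    simp only [this]
  have hin : ∀ ζ : IrrCharacter L, classInner u (ζ : L → ℂ) = (ζ : L → ℂ) 1 := by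
    intro ζ
    obtain ⟨n, -, hn⟩ := isIrr_apply_one ζ.2
    show (Nat.card L : ℂ)⁻¹ * ∑ g : L, u g * conj ((ζ : L → ℂ) g) = _
    rw [Finset.sum_eq_single (1 : L)]
    · simp only [u, if_true]
      rw [← mul_assoc, inv_mul_cancel₀ hL, one_mul, hn]
      simp
    · intro b _ hb
      simp [u, hb]
    · intro h
      exact absurd (Finset.mem_univ _) h
  have := congrFun (classFunction_eq_sum hu) g
  simp only [Finset.sum_apply, Pi.smul_apply, smul_eq_mul, hin] at this
  rw [← this]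
  simp only [u]
  split_ifs <;> rfl

/-- If an irreducible character of `L` is not constant on the normal subgroup `K`, its values on
`K` sum to zero. -/
theorem sum_apply_eq_zero (K : Subgroup L) [K.Normal] [Fintype K] {ζ : L → ℂ}
    (hζ : IsIrrCharacter L ζ) (h : ∃ k ∈ K, ζ k ≠ ζ 1) : ∑ k : K, ζ k = 0 := by
  classical
  by_contra hne
  have hK : (Nat.card K : ℂ) ≠ 0 := Nat.cast_ne_zero.2 Nat.card_pos.ne'
  have h1 : classInner (fun k : K => ζ k) (1 : K → ℂ) = (Nat.card K : ℂ)⁻¹ * ∑ k : K, ζ k := by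
    show (Nat.card K : ℂ)⁻¹ * ∑ k : K, ζ k * conj ((1 : K → ℂ) k) = _
    simp
  have h2 : classInner (fun k : K => ζ k) (1 : K → ℂ) ≠ 0 := by
    rw [h1]
    exact mul_ne_zero (inv_ne_zero hK) hne
  have h3 := restrict_eq_smul_of_invariant K hζ isIrr_one (fun g => by
    funext k
    rfl) h2
  obtain ⟨k, hk, hk'⟩ := h
  apply hk'
  have e1 := congrFun h3 ⟨k, hk⟩
  have e2 := congrFun h3 1
  simp only [Pi.smul_apply, Pi.one_apply, OneMemClass.coe_one] at e1 e2
  rw [e1, e2]

open scoped Classical in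
/-- `∑ η(1) η(g)` over the irreducible characters with `K` in the kernel. -/
theorem sum_degree_mul_apply_of_const [Fintype (IrrCharacter L)] (K : Subgroup L) [K.Normal]
    (g : L) :
    ∑ ζ ∈ Finset.univ.filter (fun ζ : IrrCharacter L =>
        ¬ ∃ k ∈ K, (ζ : L → ℂ) k ≠ (ζ : L → ℂ) 1),
      (ζ : L → ℂ) 1 * (ζ : L → ℂ) g = if g ∈ K then (K.index : ℂ) else 0 := by
  have hL : (Nat.card L : ℂ) ≠ 0 := Nat.cast_ne_zero.2 Nat.card_pos.ne'
  have hK : (Nat.card K : ℂ) ≠ 0 := Nat.cast_ne_zero.2 Nat.card_pos.ne'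
  have hKL : (Nat.card K : ℂ) * K.index = Nat.card L := by
    rw [← Subgroup.card_mul_index K]; push_cast; rfl
  let u : L → ℂ := fun g => if g ∈ K then (K.index : ℂ) else 0
  have hu : IsClassFunction L u := by
    intro g h
    simp only [u]
    have : h * g * h⁻¹ ∈ K ↔ g ∈ K := by
      constructor
      · intro h1
        have h2 := ‹K.Normal›.conj_mem _ h1 h⁻¹
        have : g = h⁻¹ * (h * g * h⁻¹) * h⁻¹⁻¹ := by group
        rw [this]
        exact h2
      · intro h1
        exact ‹K.Normal›.conj_mem _ h1 h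
    simp only [this]
  have hin : ∀ ζ : IrrCharacter L, classInner u (ζ : L → ℂ) =
      if ∃ k ∈ K, (ζ : L → ℂ) k ≠ (ζ : L → ℂ) 1 then 0 else (ζ : L → ℂ) 1 := by
    intro ζ
    obtain ⟨n, -, hn⟩ := isIrr_apply_one ζ.2
    have e1 : classInner u (ζ : L → ℂ) =
        (Nat.card L : ℂ)⁻¹ * (K.index * conj (∑ k : K, (ζ : L → ℂ) k)) := by
      show (Nat.card L : ℂ)⁻¹ * ∑ g : L, u g * conj ((ζ : L → ℂ) g) = _
      congr 1
      rw [map_sum, Finset.mul_sum]
      rw [← Finset.sum_filter_add_sum_filter_not Finset.univ (fun g => g ∈ K)]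
      rw [Finset.sum_eq_zero (s := Finset.univ.filter (fun g => ¬ g ∈ K)), add_zero]
      · rw [Finset.sum_subtype (Finset.univ.filter (fun g => g ∈ K)) (p := fun g => g ∈ K)
          (by simp)]
        refine Finset.sum_congr rfl fun k _ => ?_
        simp [u, k.2]
      · intro g hg
        have : ¬ g ∈ K := by simpa using hg
        simp [u, this]
    rw [e1]
    split_ifs with h
    · rw [sum_apply_eq_zero K ζ.2 h]
      simp
    · push Not at h
      rw [Finset.sum_congr rfl (fun (k : K) _ => h k k.2), Finset.sum_const, Finset.card_univ,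
        nsmul_eq_mul, ← Nat.card_eq_fintype_card, hn, ← hKL]
      have hi : (K.index : ℂ) ≠ 0 := Nat.cast_ne_zero.2 Subgroup.index_ne_zero_of_finite
      simp only [map_mul, Complex.conj_natCast]
      field_simp
  have := congrFun (classFunction_eq_sum hu) g
  simp only [Finset.sum_apply, Pi.smul_apply, smul_eq_mul, hin] at this
  rw [Finset.sum_filter]
  show _ = u g
  rw [this]
  refine Finset.sum_congr rfl fun ζ _ => ?_
  split_ifs <;> simp_all

open scoped Classical in
/-- `∑ ζ(1) ζ(g)` over the irreducible characters not constant on `K`, for `g ∈ K`, `g ≠ 1`. -/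
theorem sum_degree_mul_apply_of_ne [Fintype (IrrCharacter L)] (K : Subgroup L) [K.Normal]
    {g : L} (hg : g ∈ K) (hg1 : g ≠ 1) :
    ∑ ζ ∈ Finset.univ.filter (fun ζ : IrrCharacter L =>
        ∃ k ∈ K, (ζ : L → ℂ) k ≠ (ζ : L → ℂ) 1),
      (ζ : L → ℂ) 1 * (ζ : L → ℂ) g = - (K.index : ℂ) := by
  have h1 := sum_degree_mul_apply g
  have h2 := sum_degree_mul_apply_of_const K g
  rw [if_neg hg1, ← Finset.sum_filter_add_sum_filter_not Finset.univ
    (fun ζ : IrrCharacter L => ∃ k ∈ K, (ζ : L → ℂ) k ≠ (ζ : L → ℂ) 1)] at h1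
  rw [if_pos hg] at h2
  rw [h2] at h1
  linear_combination h1

open scoped Classical in
/-- `∑ ζ(1)²` over the irreducible characters not constant on `K`. -/
theorem sum_degree_sq_of_ne [Fintype (IrrCharacter L)] (K : Subgroup L) [K.Normal] :
    ∑ ζ ∈ Finset.univ.filter (fun ζ : IrrCharacter L =>
        ∃ k ∈ K, (ζ : L → ℂ) k ≠ (ζ : L → ℂ) 1),
      (ζ : L → ℂ) 1 * (ζ : L → ℂ) 1 = (K.index : ℂ) * (Nat.card K - 1) := by
  have h1 := sum_degree_mul_apply (1 : L)
  have h2 := sum_degree_mul_apply_of_const K 1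
  rw [if_pos rfl, ← Finset.sum_filter_add_sum_filter_not Finset.univ
    (fun ζ : IrrCharacter L => ∃ k ∈ K, (ζ : L → ℂ) k ≠ (ζ : L → ℂ) 1)] at h1
  rw [if_pos (one_mem K)] at h2
  rw [h2, ← Subgroup.card_mul_index K] at h1
  push_cast at h1
  linear_combination h1

end general

section frob

variable {L : Type*} [Group L] [Finite L] (K : Subgroup L) [K.Normal]

omit [K.Normal] in
/-- A subgroup containing the centralizers of its non-identity elements is a Hall
subgroup. -/
theorem coprime_card_index (hC : ∀ k ∈ K, k ≠ 1 → ∀ g : L, g * k = k * g → g ∈ K) :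
    (Nat.card K).Coprime K.index := by
  rw [Nat.coprime_iff_gcd_eq_one]
  by_contra hne
  obtain ⟨p, hp, hpd⟩ := Nat.exists_prime_and_dvd hne
  have hpK : p ∣ Nat.card K := hpd.trans (Nat.gcd_dvd_left _ _)
  have hpi : p ∣ K.index := hpd.trans (Nat.gcd_dvd_right _ _)
  have : Fact p.Prime := ⟨hp⟩
  obtain ⟨x, hx⟩ := exists_prime_orderOf_dvd_card' (G := K) p hpK
  have hx1 : (x : L) ≠ 1 := by
    intro h
    have : x = 1 := Subtype.ext h
    rw [this, orderOf_one] at hx
    exact hp.one_lt.ne hx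
  have hxp : IsPGroup p (Subgroup.zpowers (x : L)) := by
    have h1 : orderOf (x : L) = p := by rw [Subgroup.orderOf_coe, hx]
    apply IsPGroup.of_card (n := 1)
    rw [Nat.card_zpowers, h1, pow_one]
  obtain ⟨P, hP⟩ := hxp.exists_le_sylow
  have hxP : (x : L) ∈ (P : Subgroup L) := hP (Subgroup.mem_zpowers _)
  have : Nontrivial (P : Subgroup L) := by
    rw [Subgroup.nontrivial_iff_exists_ne_one]
    exact ⟨x, hxP, hx1⟩
  have hcn := P.isPGroup'.center_nontrivial
  obtain ⟨z, hz⟩ := exists_ne (1 : Subgroup.center (P : Subgroup L))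
  have hz1 : ((z : (P : Subgroup L)) : L) ≠ 1 := by
    intro h
    exact hz (Subtype.ext (Subtype.ext h))
  have hzc : ∀ y : (P : Subgroup L), y * (z : (P : Subgroup L)) = z * y :=
    fun y => Subgroup.mem_center_iff.1 z.2 y
  have hzK : ((z : (P : Subgroup L)) : L) ∈ K := by
    refine hC x x.2 hx1 _ ?_
    exact (congrArg Subtype.val (hzc ⟨x, hxP⟩)).symm
  have hPK : (P : Subgroup L) ≤ K := by
    intro y hy
    refine hC _ hzK hz1 y ?_
    exact congrArg Subtype.val (hzc ⟨y, hy⟩)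
  have h1 : ¬ p ∣ (P : Subgroup L).index := P.not_dvd_index
  exact h1 (hpi.trans (Subgroup.index_dvd_of_le hPK))

variable {K}

/-- Irreducible characters not constant on `K` vanish off `K`. -/
theorem apply_eq_zero (hC : ∀ k ∈ K, k ≠ 1 → ∀ g : L, g * k = k * g → g ∈ K) {ζ : L → ℂ}
    (hζ : IsIrrCharacter L ζ) (h : ∃ k ∈ K, ζ k ≠ ζ 1) {g : L} (hg : g ∉ K) : ζ g = 0 := by
  obtain ⟨n, ρ, hρ, rfl⟩ := hζ
  refine S0181.result ρ K ?_ g ?_
  · obtain ⟨k, hk, hk'⟩ := h
    refine ⟨k, hk, fun h0 => hk' ?_⟩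
    show LinearMap.trace _ _ (ρ k) = LinearMap.trace _ _ (ρ 1)
    rw [h0, map_one]
    rfl
  · intro k hk hkg
    by_contra hk1
    exact hg (hC k hk hk1 g hkg.symm)

/-- The index of `K` divides the degrees of irreducible characters not constant on `K`. -/
theorem exists_degree_eq (hC : ∀ k ∈ K, k ≠ 1 → ∀ g : L, g * k = k * g → g ∈ K) {ζ : L → ℂ}
    (hζ : IsIrrCharacter L ζ) (h : ∃ k ∈ K, ζ k ≠ ζ 1) :
    ∃ d : ℕ, 0 < d ∧ ζ 1 = ((K.index * d : ℕ) : ℂ) ∧ d ∣ Nat.card K := by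
  classical
  obtain ⟨H, hH⟩ := Subgroup.exists_right_complement'_of_coprime (coprime_card_index K hC)
  have := Fintype.ofFinite H
  have hHcard : Nat.card H = K.index := hH.symm.index_eq_card.symm
  have hHpos : (Nat.card H : ℂ) ≠ 0 := Nat.cast_ne_zero.2 Nat.card_pos.ne'
  obtain ⟨m, hm⟩ := classInner_isNat (isCharacter_restrict H (isIrr_isCharacter hζ))
    (isCharacter_one (G := H))
  have h1 : classInner (fun k : H => ζ k) (1 : H → ℂ) = (Nat.card H : ℂ)⁻¹ * ζ 1 := by
    show (Nat.card H : ℂ)⁻¹ * ∑ k : H, ζ k * conj ((1 : H → ℂ) k) = _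
    congr 1
    rw [Finset.sum_eq_single (1 : H)]
    · simp
    · intro b _ hb
      rw [apply_eq_zero hC hζ h, zero_mul]
      intro hbK
      have := hH.disjoint.le_bot ⟨hbK, b.2⟩
      exact hb (Subtype.ext (Subgroup.mem_bot.1 this))
    · intro h
      exact absurd (Finset.mem_univ _) h
  rw [h1] at hm
  have h2 : ζ 1 = ((K.index * m : ℕ) : ℂ) := by
    rw [Nat.cast_mul, ← hHcard, ← hm, ← mul_assoc, mul_inv_cancel₀ hHpos, one_mul]
  obtain ⟨n, hn, hn'⟩ := isIrr_apply_one hζ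
  have h3 : n = K.index * m := by
    rw [hn'] at h2
    exact_mod_cast h2
  refine ⟨m, ?_, h2, ?_⟩
  · rcases Nat.eq_zero_or_pos m with h0 | h0
    · rw [h0, mul_zero] at h3
      omega
    · exact h0
  · obtain ⟨n', ρ, hρ, rfl⟩ := hζ
    have h4 := S0135.result ρ
    have h5 : ρ.character 1 = (Module.finrank ℂ (Fin n' → ℂ) : ℂ) := Representation.char_one ρ
    rw [h5] at h2
    have h6 : Module.finrank ℂ (Fin n' → ℂ) = K.index * m := by exact_mod_cast h2
    rw [h6, ← Subgroup.card_mul_index K, mul_comm] at h4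
    exact Nat.dvd_of_mul_dvd_mul_right (Nat.pos_of_ne_zero Subgroup.index_ne_zero_of_finite) h4

/-- If all multiples of `r` by the degrees of the irreducible characters not constant on `K` are
integers, then so is the multiple of `r` by the index of `K`. -/
theorem exists_int_mul_index (hC : ∀ k ∈ K, k ≠ 1 → ∀ g : L, g * k = k * g → g ∈ K)
    (hne : ∃ ζ : L → ℂ, IsIrrCharacter L ζ ∧ ∃ k ∈ K, ζ k ≠ ζ 1) (r : ℂ)
    (hr : ∀ ζ : L → ℂ, IsIrrCharacter L ζ → (∃ k ∈ K, ζ k ≠ ζ 1) → ∃ n : ℤ, r * ζ 1 = n) :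
    ∃ m : ℤ, r * K.index = m := by
  classical
  have := Fintype.ofFinite L
  have := finite_irr (G := L)
  have := Fintype.ofFinite (IrrCharacter L)
  let I : AddSubgroup ℤ :=
    { carrier := {n : ℤ | ∃ m : ℤ, r * K.index * n = m}
      add_mem' := by
        rintro a b ⟨m, hm⟩ ⟨n, hn⟩
        refine ⟨m + n, ?_⟩
        push_cast
        rw [mul_add, hm, hn]
      zero_mem' := ⟨0, by simp⟩
      neg_mem' := by
        rintro a ⟨m, hm⟩
        refine ⟨-m, ?_⟩
        push_cast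
        rw [mul_neg, hm] }
  have hImem : ∀ n : ℤ, n ∈ I ↔ ∃ m : ℤ, r * K.index * n = m := fun n => Iff.rfl
  suffices h1 : (1 : ℤ) ∈ I by
    obtain ⟨m, hm⟩ := (hImem 1).1 h1
    refine ⟨m, ?_⟩
    rw [← hm]
    simp
  obtain ⟨n₀, hn₀⟩ := Int.subgroup_cyclic I
  have hdvd : ∀ x ∈ I, n₀ ∣ x := by
    intro x hx
    rw [hn₀, AddSubgroup.mem_closure_singleton] at hx
    obtain ⟨k, hk⟩ := hx
    exact ⟨k, by rw [← hk]; simp [mul_comm]⟩
  have hn₀I : n₀ ∈ I := by
    rw [hn₀]
    exact AddSubgroup.subset_closure rfl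
  by_cases hu : n₀.natAbs = 1
  · rcases Int.natAbs_eq n₀ with h | h
    · rw [hu] at h
      rw [h] at hn₀I
      exact_mod_cast hn₀I
    · rw [hu] at h
      rw [h] at hn₀I
      have := I.neg_mem hn₀I
      simpa using this
  · exfalso
    obtain ⟨p, hp, hpd⟩ := Nat.exists_prime_and_dvd hu
    -- `p` divides all the `d`'s
    have hpdvd : ∀ (ζ : L → ℂ), IsIrrCharacter L ζ → (∃ k ∈ K, ζ k ≠ ζ 1) → ∀ d : ℕ,
        ζ 1 = ((K.index * d : ℕ) : ℂ) → p ∣ d := by
      intro ζ hζ h d hd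
      obtain ⟨n, hn⟩ := hr ζ hζ h
      have h1 : (d : ℤ) ∈ I := by
        refine ⟨n, ?_⟩
        rw [← hn, hd]
        push_cast
        ring
      have h2 := hdvd _ h1
      have h3 : (p : ℤ) ∣ (d : ℤ) := (Int.natCast_dvd.2 hpd).trans h2
      exact_mod_cast h3
    choose! d hd using fun (ζ : IrrCharacter L)
      (h : ∃ k ∈ K, (ζ : L → ℂ) k ≠ (ζ : L → ℂ) 1) => exists_degree_eq hC ζ.2 h
    have hpd' : ∀ (ζ : IrrCharacter L), (∃ k ∈ K, (ζ : L → ℂ) k ≠ (ζ : L → ℂ) 1) → p ∣ d ζ :=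
      fun ζ h => hpdvd ζ ζ.2 h (d ζ) (hd ζ h).2.1
    have hpK : p ∣ Nat.card K := by
      obtain ⟨ζ, hζ, h⟩ := hne
      exact (hpd' ⟨ζ, hζ⟩ h).trans (hd ⟨ζ, hζ⟩ h).2.2
    have hKpos : 0 < Nat.card K := Nat.card_pos
    have hsum : K.index * ∑ ζ ∈ Finset.univ.filter (fun ζ : IrrCharacter L =>
        ∃ k ∈ K, (ζ : L → ℂ) k ≠ (ζ : L → ℂ) 1),
        d ζ * d ζ = Nat.card K - 1 := by
      have h1 := sum_degree_sq_of_ne K
      rw [Finset.sum_congr rfl (g := fun ζ : IrrCharacter L =>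
        ((K.index * (K.index * (d ζ * d ζ)) : ℕ) : ℂ)) (fun ζ hζ => by
          have h2 := (Finset.mem_filter.1 hζ).2
          rw [(hd ζ h2).2.1]
          push_cast
          ring)] at h1
      have h3 : (Nat.card K : ℂ) - 1 = ((Nat.card K - 1 : ℕ) : ℂ) := by
        rw [Nat.cast_sub hKpos]; simp
      rw [h3] at h1
      have h4 : ∑ ζ ∈ Finset.univ.filter (fun ζ : IrrCharacter L =>
        ∃ k ∈ K, (ζ : L → ℂ) k ≠ (ζ : L → ℂ) 1),
          K.index * (K.index * (d ζ * d ζ)) = K.index * (Nat.card K - 1) := by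
        exact_mod_cast h1
      rw [← Finset.mul_sum] at h4
      have h5 := Nat.eq_of_mul_eq_mul_left
        (Nat.pos_of_ne_zero Subgroup.index_ne_zero_of_finite) h4
      rw [← h5, Finset.mul_sum]
    have hp1 : p ∣ Nat.card K - 1 := by
      rw [← hsum]
      refine Dvd.dvd.mul_left (Finset.dvd_sum fun ζ hζ => ?_) _
      exact Dvd.dvd.mul_left (hpd' ζ (Finset.mem_filter.1 hζ).2) _
    have hp2 : p ∣ 1 := by
      have h6 := (Nat.dvd_sub hpK hp1)
      have h7 : Nat.card K - (Nat.card K - 1) = 1 := by omega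
      rwa [h7] at h6
    exact hp.one_lt.ne' (Nat.dvd_one.1 hp2)

end frob

end Cfsg.Agent.CharDeep.FrobKernel
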