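import Mathlib
import Cfsg.Prelude.Def_CharExt
import Cfsg.Agent.CharDeep.LinearChar

/-!
# Schur's lemma, representations with the same irreducible character, determinantal character
-/

set_option autoImplicit false

namespace Cfsg.Agent.CharDeep.IrrEquiv

open Cfsg Representation Module

section Schur

variable {G V : Type*} [Monoid G] [AddCommGroup V] [Module ℂ V] [FiniteDimensional ℂ V]

/-- Schur's lemma over `ℂ`. -/
theorem exists_smul_of_commute (ρ : Representation ℂ G V) (hρ : ρ.IsIrreducible)
    (T : V →ₗ[ℂ] V) (hT : ∀ g, T * ρ g = ρ g * T) : ∃ c : ℂ, T = c • (1 : V →ₗ[ℂ] V) := by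
  have := hρ
  obtain ⟨c, hc⟩ := (IsIrreducible.algebraMap_intertwiningMap_bijective_of_isAlgClosed
    (ρ := ρ) (k := ℂ)).2 (⟨T, hT⟩ : IntertwiningMap ρ ρ)
  refine ⟨c, ?_⟩
  have h1 := congrArg (fun f : IntertwiningMap ρ ρ => f.toLinearMap) hc
  exact h1.symm

end Schur

section Equiv

variable {G V W : Type*} [Group G] [AddCommGroup V] [Module ℂ V] [FiniteDimensional ℂ V]
  [AddCommGroup W] [Module ℂ W] [FiniteDimensional ℂ W]

/-- A representation of a finite group with the same character as an irreducible one is
equivalent to it. -/
theorem nonempty_equiv [Finite G] (ρ : Representation ℂ G V) (σ : Representation ℂ G W)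
    (hρ : ρ.IsIrreducible) (h : ρ.character = σ.character) :
    Nonempty (Representation.Equiv ρ σ) := by
  classical
  have := hρ
  have := Fintype.ofFinite G
  have hcard : (Nat.card G : ℂ) ≠ 0 := by
    have := Nat.card_pos (α := G)
    exact_mod_cast this.ne'
  have := invertibleOfNonzero hcard
  have h1 := card_inv_mul_sum_char_mul_char_eq_finrank ρ σ
  have h2 := card_inv_mul_sum_char_mul_char_eq_finrank ρ ρ
  rw [← h, h2, IsIrreducible.finrank_intertwiningMap_self] at h1
  have h3 : finrank ℂ (IntertwiningMap ρ σ) = 1 := by exact_mod_cast h1.symm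
  obtain ⟨f, hf⟩ : ∃ f : IntertwiningMap ρ σ, f ≠ 0 := by
    by_contra hcon
    push Not at hcon
    have : Subsingleton (IntertwiningMap ρ σ) := ⟨fun a b => by rw [hcon a, hcon b]⟩
    rw [finrank_zero_of_subsingleton] at h3
    exact zero_ne_one h3
  have hinj : Function.Injective f := (IsIrreducible.injective_or_eq_zero f).resolve_right hf
  have hdim : finrank ℂ V = finrank ℂ W := by
    have := congrFun h 1
    rw [char_one, char_one] at this
    exact_mod_cast this
  have hbij : Function.Bijective f := by
    refine ⟨hinj, ?_⟩
    exact (LinearMap.injective_iff_surjective_of_finrank_eq_finrank (f := f.toLinearMap) hdim).1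
      hinj
  exact ⟨f.ofBijective hbij⟩

omit [FiniteDimensional ℂ V] [FiniteDimensional ℂ W] in
/-- Equivalent representations have the same determinants. -/
theorem det_eq_of_equiv (ρ : Representation ℂ G V) (σ : Representation ℂ G W)
    (φ : Representation.Equiv ρ σ) (g : G) : LinearMap.det (ρ g) = LinearMap.det (σ g) := by
  rw [← φ.conj_apply_self g]
  exact (LinearMap.det_conj (ρ g) φ.toLinearEquiv).symm

/-- Representations of a finite group with the same irreducible character have the same
determinants. -/
theorem det_eq_of_character_eq [Finite G] (ρ : Representation ℂ G V) (σ : Representation ℂ G W)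
    (hρ : ρ.IsIrreducible) (h : ρ.character = σ.character) (g : G) :
    LinearMap.det (ρ g) = LinearMap.det (σ g) := by
  obtain ⟨φ⟩ := nonempty_equiv ρ σ hρ h
  exact det_eq_of_equiv ρ σ φ g

/-- A representation of a finite group whose character is irreducible is irreducible. -/
theorem isIrreducible_of_character_eq [Finite G] (ρ : Representation ℂ G V)
    (σ : Representation ℂ G W) (hρ : ρ.IsIrreducible) (h : ρ.character = σ.character) :
    σ.IsIrreducible := by
  obtain ⟨φ⟩ := nonempty_equiv ρ σ hρ h
  rw [LinearChar.isIrreducible_iff] at hρ ⊢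
  obtain ⟨hV, hW⟩ := hρ
  refine ⟨φ.toLinearEquiv.toEquiv.symm.nontrivial, fun U hU => ?_⟩
  have h1 := hW (U.comap φ.toLinearEquiv.toLinearMap) (fun g v hv => by
    have h2 : φ.toLinearEquiv (ρ g v) = σ g (φ.toLinearEquiv v) := by
      have := φ.isIntertwining' g
      exact congrArg (fun T => T v) this
    show φ.toLinearEquiv (ρ g v) ∈ U
    rw [h2]
    exact hU g _ hv)
  rcases h1 with h1 | h1
  · left
    have := congrArg (Submodule.map φ.toLinearEquiv.toLinearMap) h1
    rw [Submodule.map_comap_eq_of_surjective φ.toLinearEquiv.surjective, Submodule.map_bot] at this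
    exact this
  · right
    have := congrArg (Submodule.map φ.toLinearEquiv.toLinearMap) h1
    rw [Submodule.map_comap_eq_of_surjective φ.toLinearEquiv.surjective, Submodule.map_top,
      LinearMap.range_eq_top.2 φ.toLinearEquiv.surjective] at this
    exact this

end Equiv

section DetChar

variable {G : Type*} [Group G] [Finite G]

/-- The determinantal character of an irreducible character is the determinant of any
representation affording it. -/
theorem detChar_apply {V : Type*} [AddCommGroup V] [Module ℂ V] [FiniteDimensional ℂ V]
    (ρ : Representation ℂ G V) (hρ : ρ.IsIrreducible) {χ : G → ℂ} (h : ρ.character = χ)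
    (h' : IsCharacter G χ) (g : G) : detChar χ g = LinearMap.det (ρ g) := by
  have h1 : detChar χ = fun g => LinearMap.det ((Classical.choose (Classical.choose_spec h')) g) :=
    dif_pos h'
  rw [h1]
  have h2 : (Classical.choose (Classical.choose_spec h')).character = χ :=
    Classical.choose_spec (Classical.choose_spec h')
  exact (det_eq_of_character_eq ρ _ hρ (h.trans h2.symm) g).symm

/-- The determinant of a representation as a homomorphism to `ℂˣ`. -/
noncomputable def detHom {G V : Type*} [Group G] [AddCommGroup V] [Module ℂ V]
    (ρ : Representation ℂ G V) : G →* ℂˣ :=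
  MonoidHom.toHomUnits ((LinearMap.det : (V →ₗ[ℂ] V) →* ℂ).comp ρ)

theorem detHom_apply {G V : Type*} [Group G] [AddCommGroup V] [Module ℂ V]
    (ρ : Representation ℂ G V) (g : G) : (detHom ρ g : ℂ) = LinearMap.det (ρ g) := rfl

end DetChar

end Cfsg.Agent.CharDeep.IrrEquiv
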