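import Mathlib
import Cfsg.Prelude.Def_Characters
import Cfsg.Agent.Characters.Core
import Cfsg.Agent.Characters.Clifford
import Cfsg.Agent.Characters.Linear

/-!
# Degrees of irreducible characters: sum of squares, constituents over a normal subgroup
-/

set_option autoImplicit false
open Cfsg

namespace Cfsg.Agent.CharDeep.PowerDegrees

open Cfsg.Agent.Characters.Core Cfsg.Agent.Characters.Clifford Cfsg.Agent.Characters.Linear
open scoped ComplexConjugate

universe u

variable {G : Type u} [Group G]

open scoped Classical in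
/-- The indicator function of the identity. -/
noncomputable def delta (G : Type u) [Group G] : G → ℂ := fun g => if g = 1 then 1 else 0

theorem delta_one : delta G 1 = 1 := by simp [delta]

theorem delta_ne {g : G} (hg : g ≠ 1) : delta G g = 0 := by simp [delta, hg]

theorem isClassFunction_delta : IsClassFunction G (delta G) := by
  intro g h
  by_cases hg : g = 1
  · subst hg; simp
  · rw [delta_ne hg, delta_ne]
    intro h'
    apply hg
    have := congrArg (fun x => h⁻¹ * x * h) h'
    simpa [mul_assoc] using this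

theorem classInner_delta [Fintype G] (φ : G → ℂ) :
    classInner (delta G) φ = (Nat.card G : ℂ)⁻¹ * conj (φ 1) := by
  classical
  show (Nat.card G : ℂ)⁻¹ * ∑ g : G, delta G g * conj (φ g) = _
  congr 1
  rw [Finset.sum_eq_single (1 : G)]
  · rw [delta_one, one_mul]
  · intro b _ hb
    rw [delta_ne hb, zero_mul]
  · intro h; exact absurd (Finset.mem_univ _) h

theorem delta_eq_sum [Fintype G] [Fintype (IrrCharacter G)] :
    delta G = ∑ χ : IrrCharacter G, ((Nat.card G : ℂ)⁻¹ * (χ : G → ℂ) 1) • (χ : G → ℂ) := by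
  conv_lhs => rw [classFunction_eq_sum (isClassFunction_delta (G := G))]
  refine Finset.sum_congr rfl fun χ _ => ?_
  rw [classInner_delta]
  obtain ⟨n, -, hn⟩ := isIrr_apply_one χ.2
  rw [hn]
  simp

/-- The sum of the squares of the degrees is the group order. -/
theorem sum_sq [Finite G] [Fintype (IrrCharacter G)] :
    ∑ χ : IrrCharacter G, (χ : G → ℂ) 1 ^ 2 = (Nat.card G : ℂ) := by
  have := Fintype.ofFinite G
  have h := congrFun (delta_eq_sum (G := G)) 1
  rw [delta_one, Finset.sum_apply] at h
  have hc : (Nat.card G : ℂ) ≠ 0 := by exact_mod_cast Nat.card_pos.ne'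
  have h2 : ∑ χ : IrrCharacter G, (χ : G → ℂ) 1 ^ 2 =
      (Nat.card G : ℂ) * ∑ χ : IrrCharacter G,
        (((Nat.card G : ℂ)⁻¹ * (χ : G → ℂ) 1) • (χ : G → ℂ)) 1 := by
    rw [Finset.mul_sum]
    refine Finset.sum_congr rfl fun χ _ => ?_
    rw [Pi.smul_apply, smul_eq_mul]
    field_simp
  rw [h2, ← h, mul_one]

/-- Every irreducible character of a subgroup is a constituent of the restriction of some
irreducible character of the group. -/
theorem exists_irr_over [Fintype G] (N : Subgroup G) [Fintype N] {θ : N → ℂ}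
    (hθ : IsIrrCharacter N θ) :
    ∃ χ : G → ℂ, IsIrrCharacter G χ ∧ classInner (fun n : N => χ n) θ ≠ 0 := by
  classical
  by_contra hcon
  push Not at hcon
  have := finite_irr (G := G)
  have := Fintype.ofFinite (IrrCharacter G)
  have h1 : (fun n : N => delta G n) =
      ∑ χ : IrrCharacter G, ((Nat.card G : ℂ)⁻¹ * (χ : G → ℂ) 1) •
        (fun n : N => (χ : G → ℂ) n) := by
    funext n
    conv_lhs => rw [delta_eq_sum (G := G)]
    simp only [Finset.sum_apply, Pi.smul_apply]
  have h2 : (fun n : N => delta G n) = delta N := by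
    funext n
    by_cases hn : n = 1
    · subst hn
      rw [delta_one, OneMemClass.coe_one, delta_one]
    · rw [delta_ne hn, delta_ne]
      intro h; exact hn (Subtype.ext h)
  have h3 : classInner (fun n : N => delta G n) θ = 0 := by
    rw [h1, classInner_sum_left]
    refine Finset.sum_eq_zero fun χ _ => ?_
    rw [classInner_smul_left, hcon _ χ.2, mul_zero]
  rw [h2, classInner_delta] at h3
  obtain ⟨n, hn, hn'⟩ := isIrr_apply_one hθ
  rw [hn'] at h3
  have hc : (Nat.card N : ℂ) ≠ 0 := by exact_mod_cast Nat.card_pos.ne'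
  have hnc : (n : ℂ) ≠ 0 := by exact_mod_cast hn.ne'
  simp [hnc] at h3

/-- The degree of an irreducible constituent of the restriction to a normal subgroup divides
the degree. -/
theorem degree_dvd [Fintype G] (N : Subgroup G) [N.Normal] [Fintype N] {χ : G → ℂ}
    (hχ : IsIrrCharacter G χ) {θ : N → ℂ} (hθ : IsIrrCharacter N θ)
    (h : classInner (fun n : N => χ n) θ ≠ 0) : ∃ m : ℕ, χ 1 = m * θ 1 := by
  classical
  have := finite_irr (G := N)
  have := Fintype.ofFinite (IrrCharacter N)
  have hres : IsCharacter N (fun n : N => χ n) := isCharacter_restrict N (isIrr_isCharacter hχ)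
  have hexp := classFunction_eq_sum (isCharacter_isClassFunction hres)
  choose m hm using fun ψ : IrrCharacter N => classInner_isNat hres (isIrr_isCharacter ψ.2)
  refine ⟨∑ ψ : IrrCharacter N, m ψ, ?_⟩
  have h1 := congrFun hexp 1
  rw [Finset.sum_apply] at h1
  have h2 : χ 1 = ∑ ψ : IrrCharacter N,
      (classInner (fun n : N => χ n) (ψ : N → ℂ) • (ψ : N → ℂ)) 1 := h1
  rw [h2]
  push_cast
  rw [Finset.sum_mul]
  refine Finset.sum_congr rfl fun ψ _ => ?_
  rw [Pi.smul_apply, smul_eq_mul, hm ψ]
  by_cases hz : m ψ = 0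
  · rw [hz]; simp
  · congr 1
    have hne : classInner (fun n : N => χ n) (ψ : N → ℂ) ≠ 0 := by
      rw [hm ψ]; exact_mod_cast hz
    obtain ⟨g, hg⟩ := exists_conj_of_constituents N hχ hθ ψ.2 h hne
    rw [hg]
    simp

/-- If `p` divides the index of the commutator subgroup then there is a normal subgroup of
index `p`. -/
theorem exists_normal_index_eq_prime [Finite G] {p : ℕ} (hp : p.Prime)
    (h : p ∣ (commutator G).index) : ∃ N : Subgroup G, N.Normal ∧ N.index = p := by
  have hcard := card_hom_eq_index_commutator G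
  have hfin : Finite (G →* ℂˣ) := by
    apply Nat.finite_of_card_ne_zero
    rw [hcard]
    exact Subgroup.index_ne_zero_of_finite
  have : Fact p.Prime := ⟨hp⟩
  rw [← hcard] at h
  obtain ⟨f, hf⟩ := exists_prime_orderOf_dvd_card' (G := G →* ℂˣ) p h
  refine ⟨f.ker, inferInstance, ?_⟩
  rw [Subgroup.index_ker]
  have hfr : Finite f.range := Finite.of_surjective f.rangeRestrict f.rangeRestrict_surjective
  have hcyc : IsCyclic f.range := isCyclic_subgroup_units f.range
  obtain ⟨c, hc⟩ := hcyc.exists_generator
  have hcp : c ^ p = 1 := by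
    obtain ⟨g, hg⟩ := c.2
    apply Subtype.ext
    rw [SubmonoidClass.coe_pow, ← hg]
    have h1 : f ^ p = 1 := by rw [← hf]; exact pow_orderOf_eq_one f
    have := DFunLike.congr_fun h1 g
    simpa using this
  have hcard2 : Nat.card f.range = orderOf c := by
    rw [← Nat.card_zpowers, (Subgroup.eq_top_iff' (Subgroup.zpowers c)).2 hc]
    exact Nat.card_congr Subgroup.topEquiv.toEquiv.symm
  rw [hcard2]
  rcases (Nat.dvd_prime hp).1 (orderOf_dvd_of_pow_eq_one hcp) with h1 | h1
  · exfalso
    rw [orderOf_eq_one_iff] at h1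
    have hf1 : f = 1 := by
      ext g
      have hz := hc ⟨f g, g, rfl⟩
      rw [h1, Subgroup.zpowers_one_eq_bot, Subgroup.mem_bot] at hz
      have := congrArg Subtype.val hz
      simpa using congrArg Units.val this
    rw [hf1, orderOf_one] at hf
    exact hp.one_lt.ne hf
  · exact h1

/-- A finite group all of whose irreducible characters are linear is commutative. -/
theorem commutator_index_eq_card [Finite G] (h : ∀ χ : IrrCharacter G, (χ : G → ℂ) 1 = 1) :
    (commutator G).index = Nat.card G := by
  have := finite_irr (G := G)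
  have := Fintype.ofFinite (IrrCharacter G)
  rw [← card_hom_eq_index_commutator G, Nat.card_congr (linearEquiv G)]
  have h1 : Nat.card {χ : Cfsg.IrrCharacter G // (χ : G → ℂ) 1 = 1} =
      Nat.card (IrrCharacter G) :=
    Nat.card_congr (Equiv.subtypeUnivEquiv h)
  rw [h1]
  have h2 := sum_sq (G := G)
  simp only [h, one_pow, Finset.sum_const, Finset.card_univ, nsmul_eq_mul, mul_one] at h2
  rw [Nat.card_eq_fintype_card]
  exact_mod_cast h2

theorem comm_of_forall_linear [Finite G] (h : ∀ χ : IrrCharacter G, (χ : G → ℂ) 1 = 1)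
    (a b : G) : a * b = b * a := by
  have h1 := commutator_index_eq_card h
  have h2 : Nat.card (commutator G) = 1 := by
    have h3 := (commutator G).card_mul_index
    rw [h1] at h3
    have h4 : 0 < Nat.card G := Nat.card_pos
    exact Nat.eq_of_mul_eq_mul_right h4 (by rw [h3, one_mul])
  rw [Subgroup.card_eq_one] at h2
  have h3 := Subgroup.commutator_mem_commutator (Subgroup.mem_top a) (Subgroup.mem_top b)
  rw [← commutator_def, h2, Subgroup.mem_bot, commutatorElement_eq_one_iff_mul_comm] at h3
  exact h3

/-- If all irreducible degrees are powers of `p` and `p` divides the group order, then `p`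
divides the index of the commutator subgroup. -/
theorem dvd_index_commutator [Finite G] {p : ℕ} (hdvd : p ∣ Nat.card G)
    (h : ∀ χ : IrrCharacter G, ∃ k : ℕ, (χ : G → ℂ) 1 = (p : ℂ) ^ k) :
    p ∣ (commutator G).index := by
  classical
  have := finite_irr (G := G)
  have := Fintype.ofFinite (IrrCharacter G)
  rw [← card_hom_eq_index_commutator G, Nat.card_congr (linearEquiv G)]
  choose k hk using h
  have h2 := sum_sq (G := G)
  simp_rw [hk] at h2
  have h3 : ∑ χ : IrrCharacter G, (p ^ k χ) ^ 2 = Nat.card G := by exact_mod_cast h2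
  rw [← Finset.sum_filter_add_sum_filter_not Finset.univ
    (fun χ : IrrCharacter G => (χ : G → ℂ) 1 = 1)] at h3
  have h4 : ∑ χ ∈ Finset.univ.filter (fun χ : IrrCharacter G => (χ : G → ℂ) 1 = 1),
      (p ^ k χ) ^ 2 = Nat.card {χ : Cfsg.IrrCharacter G // (χ : G → ℂ) 1 = 1} := by
    rw [Nat.card_eq_fintype_card, Fintype.card_subtype, Finset.card_eq_sum_ones]
    refine Finset.sum_congr rfl fun χ hχ => ?_
    have h5 : (χ : G → ℂ) 1 = 1 := by simpa using hχ
    rw [hk] at h5
    have h6 : p ^ k χ = 1 := by exact_mod_cast h5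
    rw [h6, one_pow]
  have h5 : p ∣ ∑ χ ∈ Finset.univ.filter (fun χ : IrrCharacter G => ¬ (χ : G → ℂ) 1 = 1),
      (p ^ k χ) ^ 2 := by
    refine Finset.dvd_sum fun χ hχ => ?_
    have h5 : ¬ (χ : G → ℂ) 1 = 1 := by simpa using hχ
    have h6 : k χ ≠ 0 := by
      intro h0
      apply h5
      rw [hk, h0, pow_zero]
    exact dvd_pow (dvd_pow_self p h6) two_ne_zero
  rw [h4] at h3
  rw [← h3] at hdvd
  exact (Nat.dvd_add_left h5).1 hdvd

end Cfsg.Agent.CharDeep.PowerDegrees
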