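import Mathlib

/-!
# Extending invariant homomorphisms from normal subgroups with the transfer

`N` is a normal subgroup of `G`, `H ≥ N` has finite index and `μ : H →* A` is a homomorphism to a
commutative group whose restriction to `N` is `G`-invariant. Then the transfer of `μ` restricts to
`μ ^ [G:H]` on `N`. In particular invariant homomorphisms of exponent prime to the index extend.
-/

set_option autoImplicit false

namespace Cfsg.Agent.CharDeep.TransferExt

open Subgroup MonoidHom

variable {G A : Type*} [Group G] [CommGroup A]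

/-- The transfer of `μ : H →* A` at an element of a normal subgroup `N ≤ H` on which `μ` is
`G`-invariant is the power of exponent the index of `H`. -/
theorem transfer_apply_of_mem {H : Subgroup G} [H.FiniteIndex] (N : Subgroup G) [hN : N.Normal]
    (hNH : N ≤ H) (μ : H →* A)
    (hinv : ∀ (g n : G) (hn : n ∈ N), μ ⟨g * n * g⁻¹, hNH (hN.conj_mem n hn g)⟩ = μ ⟨n, hNH hn⟩)
    (n : G) (hn : n ∈ N) : MonoidHom.transfer μ n = μ ⟨n, hNH hn⟩ ^ H.index := by
  classical
  let _ := H.fintypeQuotientOfFiniteIndex
  rw [MonoidHom.transfer_def μ (default : H.LeftTransversal) n, Subgroup.leftTransversals.diff]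
  have key : ∀ q : G ⧸ H, n⁻¹ • q = q := by
    intro q
    induction q using QuotientGroup.induction_on with
    | H x =>
      change ((n⁻¹ * x : G) : G ⧸ H) = (x : G ⧸ H)
      rw [QuotientGroup.eq]
      have := hN.conj_mem n hn x⁻¹
      apply hNH
      simpa [mul_assoc] using this
  rw [Finset.prod_congr rfl (g := fun _ => μ ⟨n, hNH hn⟩)]
  · rw [Finset.prod_const, Finset.card_univ, Subgroup.index_eq_card, Nat.card_eq_fintype_card]
  · intro q _
    have h1 : (((n • (default : H.LeftTransversal)).2.leftQuotientEquiv q : _) : G) =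
        n * ((default : H.LeftTransversal).2.leftQuotientEquiv q : G) := by
      rw [Subgroup.smul_apply_eq_smul_apply_inv_smul, key q, smul_eq_mul]
    set t : G := ((default : H.LeftTransversal).2.leftQuotientEquiv q : G) with ht
    have h2 := hinv t⁻¹ n hn
    rw [← h2]
    congr 1
    apply Subtype.ext
    simp only [h1, inv_inv, mul_assoc]
    rfl

/-- Values of the transfer are killed by any exponent that kills `μ`. -/
theorem transfer_pow_eq_one {H : Subgroup G} [H.FiniteIndex] (μ : H →* A) (m : ℕ)
    (hm : ∀ h : H, μ h ^ m = 1) (g : G) : MonoidHom.transfer μ g ^ m = 1 := by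
  classical
  let _ := H.fintypeQuotientOfFiniteIndex
  rw [MonoidHom.transfer_def μ (default : H.LeftTransversal) g, Subgroup.leftTransversals.diff,
    ← Finset.prod_pow]
  exact Finset.prod_eq_one fun q _ => hm _

/-- A `G`-invariant homomorphism `ϕ` from a normal subgroup `N` of finite index to a commutative
group, of exponent dividing `m` prime to the index, extends to a homomorphism on `G` of exponent
dividing `m`. -/
theorem exists_extension_of_coprime (N : Subgroup G) [hN : N.Normal] [N.FiniteIndex]
    (ϕ : N →* A)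
    (hinv : ∀ (g : G) (n : N), ϕ ⟨g * n * g⁻¹, hN.conj_mem n n.2 g⟩ = ϕ n) (m : ℕ)
    (hm : ∀ n, ϕ n ^ m = 1) (hcop : Nat.Coprime N.index m) :
    ∃ ψ : G →* A, (∀ n : N, ψ n = ϕ n) ∧ ∀ g, ψ g ^ m = 1 := by
  have hb := Nat.gcd_eq_gcd_ab N.index m
  rw [Nat.Coprime] at hcop
  rw [hcop] at hb
  set a := Nat.gcdA N.index m
  set b := Nat.gcdB N.index m
  refine ⟨{ toFun := fun g => MonoidHom.transfer ϕ g ^ a, map_one' := by simp, 
            map_mul' := fun g h => by rw [map_mul, mul_zpow] }, ?_, ?_⟩
  · intro n
    show MonoidHom.transfer ϕ n ^ a = ϕ n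
    rw [transfer_apply_of_mem N le_rfl ϕ (fun g n hn => hinv g ⟨n, hn⟩) n n.2,
      ← zpow_natCast, ← zpow_mul]
    have h1 : (N.index : ℤ) * a = 1 - m * b := by push_cast at hb; linarith
    rw [h1, zpow_sub, zpow_one, zpow_mul, zpow_natCast]
    simp [hm]
  · intro g
    show (MonoidHom.transfer ϕ g ^ a) ^ m = 1
    rw [← zpow_natCast, ← zpow_mul, mul_comm, zpow_mul, zpow_natCast,
      transfer_pow_eq_one ϕ m hm, one_zpow]

end Cfsg.Agent.CharDeep.TransferExt
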