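import Mathlib
import Cfsg.Prelude.Def_Characters
import Cfsg.Prelude.Def_CharExt

/-!
# Representations with the same character as an irreducible one; the determinantal character
-/

set_option autoImplicit false

namespace Cfsg.Agent.CharDeep.SameChar

open Cfsg

variable {G : Type*} [Group G] [Finite G]
variable {V W : Type*} [AddCommGroup V] [Module ℂ V] [FiniteDimensional ℂ V]
  [AddCommGroup W] [Module ℂ W] [FiniteDimensional ℂ W]

/-- A representation of a finite group with the same character as an irreducible representation
is equivalent to it. -/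
theorem exists_linearEquiv (ρ : Representation ℂ G V) (σ : Representation ℂ G W)
    (hρ : ρ.IsIrreducible) (h : σ.character = ρ.character) :
    ∃ e : V ≃ₗ[ℂ] W, ∀ g v, e (ρ g v) = σ g (e v) := by
  classical
  have : Fintype G := Fintype.ofFinite G
  have hG : (Nat.card G : ℂ) ≠ 0 := Nat.cast_ne_zero.2 Nat.card_pos.ne'
  have : Invertible (Nat.card G : ℂ) := invertibleOfNonzero hG
  have h1 := Representation.card_inv_mul_sum_char_mul_char_eq_finrank ρ σ
  have h2 := Representation.card_inv_mul_sum_char_mul_char_eq_finrank ρ ρ
  rw [h, h2, Representation.IsIrreducible.finrank_intertwiningMap_self ρ] at h1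
  have h3 : Module.finrank ℂ (Representation.IntertwiningMap ρ σ) = 1 := by
    exact_mod_cast h1.symm
  have h4 : Nontrivial (Representation.IntertwiningMap ρ σ) :=
    Module.nontrivial_of_finrank_pos (R := ℂ) (by omega)
  obtain ⟨f, hf⟩ := exists_ne (0 : Representation.IntertwiningMap ρ σ)
  have hinj : Function.Injective f :=
    (Representation.IsIrreducible.injective_or_eq_zero f).resolve_right hf
  have hrank : Module.finrank ℂ V = Module.finrank ℂ W := by
    have h5 := congrFun h 1
    rw [Representation.char_one, Representation.char_one] at h5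
    exact_mod_cast h5.symm
  refine ⟨LinearEquiv.ofInjectiveOfFinrankEq f.toLinearMap hinj hrank, fun g v => ?_⟩
  exact Representation.IntertwiningMap.isIntertwining _ _ f g v

omit [Finite G] [FiniteDimensional ℂ V] [FiniteDimensional ℂ W] in
/-- Determinants of equivalent representations agree. -/
theorem det_eq_of_linearEquiv (ρ : Representation ℂ G V) (σ : Representation ℂ G W)
    (e : V ≃ₗ[ℂ] W) (h : ∀ g v, e (ρ g v) = σ g (e v)) (g : G) :
    LinearMap.det (σ g) = LinearMap.det (ρ g) := by
  have h1 : σ g = (e : V →ₗ[ℂ] W) ∘ₗ (ρ g) ∘ₗ (e.symm : W →ₗ[ℂ] V) := by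
    ext w
    simp [h]
  rw [h1, LinearMap.det_conj]

/-- The determinantal character of the character of an irreducible representation. -/
theorem detChar_character {n : ℕ} (ρ : Representation ℂ G (Fin n → ℂ)) (hρ : ρ.IsIrreducible)
    (g : G) : detChar ρ.character g = LinearMap.det (ρ g) := by
  have h : IsCharacter G ρ.character := ⟨n, ρ, rfl⟩
  have h1 : detChar ρ.character =
      fun g => LinearMap.det ((Classical.choose (Classical.choose_spec h)) g) := by
    delta detChar
    rw [dif_pos h]
  rw [h1]
  have h2 := Classical.choose_spec (Classical.choose_spec h)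
  obtain ⟨e, he⟩ := exists_linearEquiv ρ _ hρ h2
  exact det_eq_of_linearEquiv ρ _ e he g

/-- Schur's lemma, scalar form: a linear map commuting with an irreducible representation
is a scalar. -/
theorem exists_smul_of_commute {H : Type*} [Group H] (ρ : Representation ℂ H V)
    (hρ : ρ.IsIrreducible) (T : V →ₗ[ℂ] V) (hT : ∀ g v, T (ρ g v) = ρ g (T v)) :
    ∃ z : ℂ, T = z • LinearMap.id := by
  let f : Representation.IntertwiningMap ρ ρ := ⟨T, fun g => LinearMap.ext (hT g)⟩
  obtain ⟨z, hz⟩ :=
    (Representation.IsIrreducible.algebraMap_intertwiningMap_bijective_of_isAlgClosed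
      (ρ := ρ)).2 f
  refine ⟨z, ?_⟩
  have := congrArg Representation.IntertwiningMap.toLinearMap hz
  exact this.symm

end Cfsg.Agent.CharDeep.SameChar
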