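import Mathlib
import Cfsg.Prelude.Def_Characters
import Cfsg.Prelude.Def_OddOrderChar
import Cfsg.Agent.Characters.Core
import Cfsg.Agent.Characters.Clifford
import Cfsg.Agent.CharactersDeep.NormalInd
import Cfsg.Agent.CharDeep.FrobKernel

/-!
# T.I. subgroups with Frobenius normalizer

`K` is a subgroup of the finite group `G`, `N` its normalizer, with the hypotheses
* `hTI : ∀ g, g ∉ N → ∀ k ∈ K, g * k * g⁻¹ ∈ K → k = 1`
* `hC : ∀ k ∈ K, k ≠ 1 → centralizer {k} ≤ K`.
-/

set_option autoImplicit false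
open Cfsg

namespace Cfsg.Agent.CharDeep.TIFN

open Cfsg.Agent.Characters.Core hiding indFun_apply extendByZero_of_mem
open Cfsg.Agent.Characters.Clifford
open Cfsg.Agent.CharactersDeep.NormalInd Cfsg.Agent.CharDeep.FrobKernel
open scoped ComplexConjugate

section span

variable {L : Type*} [Group L]

theorem zspan_add {X : Type*} {S : Set (X → ℂ)} {a b : X → ℂ} (ha : a ∈ zspan S)
    (hb : b ∈ zspan S) : a + b ∈ zspan S :=
  Submodule.add_mem _ ha hb

theorem zspan_zsmul {X : Type*} {S : Set (X → ℂ)} {a : X → ℂ} (n : ℤ) (ha : a ∈ zspan S) :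
    n • a ∈ zspan S :=
  Submodule.smul_mem _ n ha

theorem zspan_mem {X : Type*} {S : Set (X → ℂ)} {a : X → ℂ} (ha : a ∈ S) : a ∈ zspan S :=
  Submodule.subset_span ha

theorem zsmul_app {X : Type*} (n : ℤ) (f : X → ℂ) (x : X) : (n • f) x = (n : ℂ) * f x := by
  rw [Pi.smul_apply, zsmul_eq_mul]

/-- A linear isometry on an integer span commutes with integer combinations of two elements. -/
theorem isometry_comb [Fintype L] {G : Type*} [Group G] [Fintype G] {S : Set (L → ℂ)}
    {star : (L → ℂ) → (G → ℂ)} (hstar : IsLinearIsometryOn (zspan S) star) {a b : L → ℂ}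
    (ha : a ∈ S) (hb : b ∈ S) (m n : ℤ) :
    star (m • a + n • b) = m • star a + n • star b := by
  rw [hstar.1 _ (zspan_zsmul m (zspan_mem ha)) _ (zspan_zsmul n (zspan_mem hb)),
    hstar.2.1 _ (zspan_mem ha), hstar.2.1 _ (zspan_mem hb)]

end span

variable {G : Type*} [Group G] (K : Subgroup G)

/-- `K` contains the centralizers in its normalizer of its non-identity elements. -/
theorem centralizer_subgroupOf
    (hC : ∀ k ∈ K, k ≠ 1 → Subgroup.centralizer ({k} : Set G) ≤ K) :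
    ∀ k ∈ K.subgroupOf (Subgroup.normalizer (K : Set G)), k ≠ 1 →
      ∀ g : Subgroup.normalizer (K : Set G), g * k = k * g →
        g ∈ K.subgroupOf (Subgroup.normalizer (K : Set G)) := by
  intro k hk hk1 g hg
  rw [Subgroup.mem_subgroupOf] at hk ⊢
  refine hC k hk (fun h => hk1 (Subtype.ext h)) ?_
  rw [Subgroup.mem_centralizer_iff]
  intro h hh
  rw [Set.mem_singleton_iff] at hh
  subst hh
  exact (congrArg Subtype.val hg).symm

instance subgroupOf_normal : (K.subgroupOf (Subgroup.normalizer (K : Set G))).Normal :=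
  Subgroup.normal_in_normalizer

variable {K}

/-- Induction from the normalizer of a T.I. subgroup, of a function supported on its non-identity
elements. -/
theorem indFun_apply_of_mem [Fintype G]
    (hTI : ∀ g : G, g ∉ Subgroup.normalizer (K : Set G) → ∀ k ∈ K, g * k * g⁻¹ ∈ K → k = 1)
    {α : Subgroup.normalizer (K : Set G) → ℂ}
    (hα : IsClassFunction (Subgroup.normalizer (K : Set G)) α)
    (hα0 : ∀ x : Subgroup.normalizer (K : Set G), (x : G) ∉ K → α x = 0)
    (k : Subgroup.normalizer (K : Set G)) (hk : (k : G) ∈ K) (hk1 : k ≠ 1) :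
    indFun (Subgroup.normalizer (K : Set G)) α k = α k := by
  classical
  have hN : (Nat.card (Subgroup.normalizer (K : Set G)) : ℂ) ≠ 0 :=
    Nat.cast_ne_zero.2 Nat.card_pos.ne'
  rw [indFun_apply]
  have h1 : ∀ x : G, extendByZero (Subgroup.normalizer (K : Set G)) α (x⁻¹ * k * x) =
      if x ∈ Subgroup.normalizer (K : Set G) then α k else 0 := by
    intro x
    split_ifs with hx
    · have h2 : x⁻¹ * k * x = ((⟨x, hx⟩⁻¹ * k * ⟨x, hx⟩⁻¹⁻¹ :
          Subgroup.normalizer (K : Set G)) : G) := by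
        simp
      rw [h2, extendByZero_coe]
      exact hα k _
    · by_cases hy : x⁻¹ * k * x ∈ Subgroup.normalizer (K : Set G)
      · rw [extendByZero_of_mem _ _ hy]
        apply hα0
        intro h3
        apply hk1
        apply Subtype.ext
        refine hTI x⁻¹ (fun h => hx (by simpa using inv_mem h)) k hk ?_
        simpa using h3
      · exact extendByZero_of_not_mem _ _ hy
  rw [Finset.sum_congr rfl (fun x _ => h1 x), ← Finset.sum_filter, Finset.sum_const, nsmul_eq_mul]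
  have h2 : (Finset.univ.filter (fun x => x ∈ Subgroup.normalizer (K : Set G))).card =
      Nat.card (Subgroup.normalizer (K : Set G)) := by
    rw [Nat.card_eq_fintype_card, Fintype.card_subtype]
  rw [h2, ← mul_assoc, inv_mul_cancel₀ hN, one_mul]

/-- The set of irreducible characters of the normalizer `N` of `K` not constant on `K`. -/
theorem mem_iff {S : Set (↥(Subgroup.normalizer (K : Set G)) → ℂ)}
    (hS : S = {χ : ↥(Subgroup.normalizer (K : Set G)) → ℂ |
      Cfsg.IsIrrCharacter ↥(Subgroup.normalizer (K : Set G)) χ ∧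
        ∃ k : ↥(Subgroup.normalizer (K : Set G)), (k : G) ∈ K ∧ χ k ≠ χ 1})
    (χ : ↥(Subgroup.normalizer (K : Set G)) → ℂ) :
    χ ∈ S ↔ IsIrrCharacter ↥(Subgroup.normalizer (K : Set G)) χ ∧
      ∃ k ∈ K.subgroupOf (Subgroup.normalizer (K : Set G)), χ k ≠ χ 1 := by
  rw [hS]
  exact Iff.rfl

/-- Generalized characters have integral inner products. -/
theorem classInner_isInt {L : Type*} [Group L] [Fintype L] {φ ψ : L → ℂ}
    (hφ : IsGeneralizedCharacter L φ) (hψ : IsCharacter L ψ) : ∃ n : ℤ, classInner φ ψ = n := by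
  obtain ⟨a, b, ha, hb, rfl⟩ := hφ
  obtain ⟨m, hm⟩ := classInner_isNat ha hψ
  obtain ⟨n, hn⟩ := classInner_isNat hb hψ
  refine ⟨m - n, ?_⟩
  rw [classInner_sub_left, hm, hn]
  push_cast
  rfl

section main

variable [Fintype G] [Fintype ↥(Subgroup.normalizer (K : Set G))]
  {S : Set (↥(Subgroup.normalizer (K : Set G)) → ℂ)}
  {star : (↥(Subgroup.normalizer (K : Set G)) → ℂ) → (G → ℂ)}

/-- For `χ, ζ, ξ ∈ S`, the combination `ζ(1) ξ - ξ(1) ζ` is orthogonal to the difference of the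
restriction of `star χ` and `χ`. -/
theorem restrict_sub_inner (hstar : IsLinearIsometryOn (zspan S) star)
    (hSirr : ∀ χ ∈ S, IsIrrCharacter ↥(Subgroup.normalizer (K : Set G)) χ)
    (hext : ∀ α ∈ zspanOn S ({1}ᶜ : Set ↥(Subgroup.normalizer (K : Set G))),
      star α = indFun (Subgroup.normalizer (K : Set G)) α)
    {χ ζ ξ : ↥(Subgroup.normalizer (K : Set G)) → ℂ} (hχ : χ ∈ S) (hζ : ζ ∈ S) (hξ : ξ ∈ S) :
    ζ 1 * classInner ((fun n : Subgroup.normalizer (K : Set G) => star χ n) - χ) ξ =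
      ξ 1 * classInner ((fun n : Subgroup.normalizer (K : Set G) => star χ n) - χ) ζ := by
  obtain ⟨a, -, ha⟩ := isIrr_apply_one (hSirr ζ hζ)
  obtain ⟨b, -, hb⟩ := isIrr_apply_one (hSirr ξ hξ)
  set α : ↥(Subgroup.normalizer (K : Set G)) → ℂ := (a : ℤ) • ξ + (-(b : ℤ)) • ζ with hα
  have hα1 : α 1 = 0 := by
    simp only [hα, Pi.add_apply, zsmul_app, ha, hb]
    push_cast
    ring
  have hαz : α ∈ zspan S := zspan_add (zspan_zsmul _ (zspan_mem hξ)) (zspan_zsmul _ (zspan_mem hζ))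
  have hαs : α ∈ zspanOn S ({1}ᶜ : Set ↥(Subgroup.normalizer (K : Set G))) := by
    refine ⟨hαz, fun x hx => ?_⟩
    have : x = 1 := by simpa using hx
    rw [this, hα1]
  have hαc : α = (a : ℂ) • ξ - (b : ℂ) • ζ := by
    funext x
    simp only [hα, Pi.add_apply, Pi.sub_apply, zsmul_app]
    rw [Pi.smul_apply, Pi.smul_apply, smul_eq_mul, smul_eq_mul]
    push_cast
    ring
  have hsc : IsClassFunction G (star χ) := by
    obtain ⟨u, v, hu, hv, h⟩ := hstar.2.2.2 χ (zspan_mem hχ)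
    rw [h]
    intro g h
    simp only [Pi.sub_apply, isCharacter_isClassFunction hu g h, isCharacter_isClassFunction hv g h]
  have h1 : classInner (fun n : Subgroup.normalizer (K : Set G) => star χ n) α =
      classInner χ α := by
    rw [← hstar.2.2.1 χ (zspan_mem hχ) α hαz, hext α hαs, ← classInner_conj_symm α,
      ← classInner_indFun _ α _ hsc, classInner_conj_symm]
  have h2 : classInner ((fun n : Subgroup.normalizer (K : Set G) => star χ n) - χ) α = 0 := by
    rw [classInner_sub_left, h1, sub_self]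
  rw [hαc, classInner_sub_right, classInner_smul_right, classInner_smul_right,
    Complex.conj_natCast, Complex.conj_natCast, ← ha, ← hb] at h2
  linear_combination h2

/-- The difference `star χ - χ` on the non-identity elements of `K` is an integer constant. -/
theorem exists_int_const
    (hC : ∀ k ∈ K, k ≠ 1 → Subgroup.centralizer ({k} : Set G) ≤ K)
    (hS : S = {χ : ↥(Subgroup.normalizer (K : Set G)) → ℂ |
      Cfsg.IsIrrCharacter ↥(Subgroup.normalizer (K : Set G)) χ ∧
        ∃ k : ↥(Subgroup.normalizer (K : Set G)), (k : G) ∈ K ∧ χ k ≠ χ 1})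
    (hstar : IsLinearIsometryOn (zspan S) star)
    (hext : ∀ α ∈ zspanOn S ({1}ᶜ : Set ↥(Subgroup.normalizer (K : Set G))),
      star α = indFun (Subgroup.normalizer (K : Set G)) α)
    {χ : ↥(Subgroup.normalizer (K : Set G)) → ℂ} (hχ : χ ∈ S) :
    ∃ M : ℤ, ∀ k : ↥(Subgroup.normalizer (K : Set G)), (k : G) ∈ K → k ≠ 1 →
      star χ k - χ k = M := by
  classical
  have := finite_irr (G := (Subgroup.normalizer (K : Set G)))
  have := Fintype.ofFinite (IrrCharacter (Subgroup.normalizer (K : Set G)))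
  have hC' := centralizer_subgroupOf K hC
  have hSirr : ∀ χ ∈ S, IsIrrCharacter (Subgroup.normalizer (K : Set G)) χ := fun χ h => ((mem_iff hS χ).1 h).1
  set f : (Subgroup.normalizer (K : Set G)) → ℂ := (fun n : (Subgroup.normalizer (K : Set G)) => star χ n) - χ with hf
  have hfg : IsGeneralizedCharacter (Subgroup.normalizer (K : Set G)) f := by
    obtain ⟨u, v, hu, hv, h⟩ := hstar.2.2.2 χ (zspan_mem hχ)
    refine ⟨fun n : (Subgroup.normalizer (K : Set G)) => u n, (fun n : (Subgroup.normalizer (K : Set G)) => v n) + χ, isCharacter_restrict (Subgroup.normalizer (K : Set G)) hu,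
      isCharacter_add (isCharacter_restrict (Subgroup.normalizer (K : Set G)) hv) (isIrr_isCharacter (hSirr χ hχ)), ?_⟩
    rw [hf, h]
    funext n
    simp only [Pi.sub_apply, Pi.add_apply]
    ring
  have hfc : IsClassFunction (Subgroup.normalizer (K : Set G)) f := by
    obtain ⟨u, v, hu, hv, h⟩ := hfg
    rw [h]
    intro g h
    simp only [Pi.sub_apply, isCharacter_isClassFunction hu g h, isCharacter_isClassFunction hv g h]
  obtain ⟨d, hdpos, hd⟩ := isIrr_apply_one (hSirr χ hχ)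
  have hd0 : (d : ℂ) ≠ 0 := Nat.cast_ne_zero.2 hdpos.ne'
  set a : ℂ := classInner f χ / χ 1 with ha
  have haS : ∀ ζ ∈ S, classInner f ζ = a * ζ 1 := by
    intro ζ hζ
    have h1 := restrict_sub_inner hstar hSirr hext hχ hζ hχ
    rw [ha, hd]
    rw [hd] at h1
    rw [eq_comm, div_mul_eq_mul_div, div_eq_iff hd0]
    linear_combination h1
  choose c hc using fun ζ : IrrCharacter (Subgroup.normalizer (K : Set G)) => classInner_isInt hfg (isIrr_isCharacter ζ.2)
  choose dd hddpos hdd using fun ζ : IrrCharacter (Subgroup.normalizer (K : Set G)) => isIrr_apply_one ζ.2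
  -- `a * index` is an integer
  obtain ⟨A, hA⟩ : ∃ A : ℤ, a * ((K.subgroupOf (Subgroup.normalizer (K : Set G))).index : ℂ) = A := by
    refine exists_int_mul_index hC' ⟨χ, (mem_iff hS χ).1 hχ⟩ a ?_
    intro ζ hζ h
    have hζS : ζ ∈ S := (mem_iff hS ζ).2 ⟨hζ, h⟩
    exact ⟨c ⟨ζ, hζ⟩, by rw [← haS ζ hζS]; exact hc ⟨ζ, hζ⟩⟩
  refine ⟨-A + ∑ ζ ∈ Finset.univ.filter (fun ζ : IrrCharacter (Subgroup.normalizer (K : Set G)) =>
        ¬ ∃ k ∈ K.subgroupOf (Subgroup.normalizer (K : Set G)), (ζ : (Subgroup.normalizer (K : Set G)) → ℂ) k ≠ (ζ : (Subgroup.normalizer (K : Set G)) → ℂ) 1), c ζ * dd ζ, ?_⟩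
  intro k hk hk1
  have hkK' : k ∈ K.subgroupOf (Subgroup.normalizer (K : Set G)) := hk
  have h1 := congrFun (classFunction_eq_sum hfc) k
  simp only [Finset.sum_apply, Pi.smul_apply, smul_eq_mul] at h1
  have h2 : star χ k - χ k = f k := rfl
  rw [h2, h1, ← Finset.sum_filter_add_sum_filter_not Finset.univ
    (fun ζ : IrrCharacter (Subgroup.normalizer (K : Set G)) => ∃ k ∈ K.subgroupOf (Subgroup.normalizer (K : Set G)), (ζ : (Subgroup.normalizer (K : Set G)) → ℂ) k ≠ (ζ : (Subgroup.normalizer (K : Set G)) → ℂ) 1)]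
  push_cast
  congr 1
  · rw [Finset.sum_congr rfl (g := fun ζ : IrrCharacter (Subgroup.normalizer (K : Set G)) => a * ((ζ : (Subgroup.normalizer (K : Set G)) → ℂ) 1 * (ζ : (Subgroup.normalizer (K : Set G)) → ℂ) k))
      (fun ζ hζ => by
        rw [haS ζ ((mem_iff hS _).2 ⟨ζ.2, (Finset.mem_filter.1 hζ).2⟩)]
        ring), ← Finset.mul_sum, sum_degree_mul_apply_of_ne (K.subgroupOf (Subgroup.normalizer (K : Set G))) hkK' hk1, ← hA]
    ring
  · refine Finset.sum_congr rfl fun ζ hζ => ?_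
    have h3 := (Finset.mem_filter.1 hζ).2
    push Not at h3
    rw [h3 k hkK', hc, hdd]

/-- **Theorem** (S0853). -/
theorem exists_int_main
    (hTI : ∀ g : G, g ∉ Subgroup.normalizer (K : Set G) → ∀ k ∈ K, g * k * g⁻¹ ∈ K → k = 1)
    (hC : ∀ k ∈ K, k ≠ 1 → Subgroup.centralizer ({k} : Set G) ≤ K)
    (hS : S = {χ : ↥(Subgroup.normalizer (K : Set G)) → ℂ |
      Cfsg.IsIrrCharacter ↥(Subgroup.normalizer (K : Set G)) χ ∧
        ∃ k : ↥(Subgroup.normalizer (K : Set G)), (k : G) ∈ K ∧ χ k ≠ χ 1})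
    (hne : ∃ χ, χ ∈ S)
    (hstar : IsLinearIsometryOn (zspan S) star)
    (hext : ∀ α ∈ zspanOn S ({1}ᶜ : Set ↥(Subgroup.normalizer (K : Set G))),
      star α = indFun (Subgroup.normalizer (K : Set G)) α) :
    ∃ m : ℤ, ∀ χ ∈ S, ∀ k : ↥(Subgroup.normalizer (K : Set G)), (k : G) ∈ K → k ≠ 1 →
      star χ k - χ k = (m : ℂ) * χ 1 /
        ((K.subgroupOf (Subgroup.normalizer (K : Set G))).index : ℂ) := by
  classical
  have hC' := centralizer_subgroupOf K hC
  have hSirr : ∀ χ ∈ S, IsIrrCharacter (Subgroup.normalizer (K : Set G)) χ :=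
    fun χ h => ((mem_iff hS χ).1 h).1
  have hSvan : ∀ χ ∈ S, ∀ x : Subgroup.normalizer (K : Set G), (x : G) ∉ K → χ x = 0 := by
    intro χ hχ x hx
    obtain ⟨h1, h2⟩ := (mem_iff hS χ).1 hχ
    exact apply_eq_zero hC' h1 h2 hx
  choose! M hM using fun χ (hχ : χ ∈ S) => exists_int_const hC hS hstar hext hχ
  -- proportionality
  have hprop : ∀ χ ∈ S, ∀ ξ ∈ S, ξ 1 * (M χ : ℂ) = χ 1 * M ξ := by
    intro χ hχ ξ hξ
    obtain ⟨k, hkK, hk⟩ := ((mem_iff hS χ).1 hχ).2
    have hk1 : k ≠ 1 := by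
      rintro rfl
      exact hk rfl
    rw [← hM χ hχ k hkK hk1, ← hM ξ hξ k hkK hk1]
    obtain ⟨a, -, ha⟩ := isIrr_apply_one (hSirr ξ hξ)
    obtain ⟨b, -, hb⟩ := isIrr_apply_one (hSirr χ hχ)
    set α : ↥(Subgroup.normalizer (K : Set G)) → ℂ := (a : ℤ) • χ + (-(b : ℤ)) • ξ with hα
    have hα1 : α 1 = 0 := by
      simp only [hα, Pi.add_apply, zsmul_app, ha, hb]
      push_cast
      ring
    have hαz : α ∈ zspan S :=
      zspan_add (zspan_zsmul _ (zspan_mem hχ)) (zspan_zsmul _ (zspan_mem hξ))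
    have hαs : α ∈ zspanOn S ({1}ᶜ : Set ↥(Subgroup.normalizer (K : Set G))) := by
      refine ⟨hαz, fun x hx => ?_⟩
      have : x = 1 := by simpa using hx
      rw [this, hα1]
    have hαc : IsClassFunction (Subgroup.normalizer (K : Set G)) α := by
      intro g h
      simp only [hα, Pi.add_apply, Pi.smul_apply, isIrr_isClassFunction (hSirr ξ hξ) g h,
        isIrr_isClassFunction (hSirr χ hχ) g h]
    have hα0 : ∀ x : Subgroup.normalizer (K : Set G), (x : G) ∉ K → α x = 0 := by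
      intro x hx
      simp only [hα, Pi.add_apply, Pi.smul_apply, hSvan χ hχ x hx, hSvan ξ hξ x hx, smul_zero,
        add_zero]
    have h1 := indFun_apply_of_mem hTI hαc hα0 k hkK hk1
    rw [← hext α hαs, hα, isometry_comb hstar hχ hξ] at h1
    simp only [Pi.add_apply, zsmul_app] at h1
    push_cast at h1
    rw [ha, hb]
    linear_combination h1
  obtain ⟨χ₀, hχ₀⟩ := hne
  obtain ⟨d, hdpos, hd⟩ := isIrr_apply_one (hSirr χ₀ hχ₀)
  have hd0 : (d : ℂ) ≠ 0 := Nat.cast_ne_zero.2 hdpos.ne'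
  have hc : ∀ ζ ∈ S, (M χ₀ / χ₀ 1 : ℂ) * ζ 1 = M ζ := by
    intro ζ hζ
    have h1 := hprop χ₀ hχ₀ ζ hζ
    rw [hd] at h1 ⊢
    rw [div_mul_eq_mul_div, div_eq_iff hd0]
    linear_combination h1
  obtain ⟨m, hm⟩ := exists_int_mul_index hC' ⟨χ₀, (mem_iff hS χ₀).1 hχ₀⟩ (M χ₀ / χ₀ 1 : ℂ)
    (fun ζ hζ h => ⟨M ζ, hc ζ ((mem_iff hS ζ).2 ⟨hζ, h⟩)⟩)
  refine ⟨m, ?_⟩
  intro χ hχ k hk hk1
  have hi : ((K.subgroupOf (Subgroup.normalizer (K : Set G))).index : ℂ) ≠ 0 :=
    Nat.cast_ne_zero.2 Subgroup.index_ne_zero_of_finite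
  rw [hM χ hχ k hk hk1, ← hc χ hχ, ← hm]
  field_simp

end main

end Cfsg.Agent.CharDeep.TIFN
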