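import Mathlib
import Cfsg.Agent.CharDeep.ProjExt

/-!
# Finite covers of character triples

For an invariant irreducible representation `ρ` of a normal subgroup `N` of a finite group `G`
there is a finite group `Δ` of pairs `(g, T)` (a subgroup of `intGroup ρ`), projecting onto `G` with
central kernel consisting of scalars, containing the copy `{(n, ρ n)}` of `N` as a normal
subgroup; the projection to the second coordinate is a representation of `Δ` extending `ρ`.
-/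

set_option autoImplicit false

namespace Cfsg.Agent.CharDeep.TripleCover

open Cfsg Representation Module Cfsg.Agent.CharDeep.IrrEquiv Cfsg.Agent.CharDeep.ProjExt

variable {G V : Type*} [Group G] [AddCommGroup V] [Module ℂ V]

/-- The second projection as a representation. -/
def coverRep (Δ : Subgroup (G × (V →ₗ[ℂ] V)ˣ)) : Representation ℂ Δ V :=
  (Units.coeHom (V →ₗ[ℂ] V)).comp (opr Δ)

theorem coverRep_apply (Δ : Subgroup (G × (V →ₗ[ℂ] V)ˣ)) (x : Δ) :
    coverRep Δ x = (x.1.2 : V →ₗ[ℂ] V) := rfl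

/-- The homomorphism `n ↦ (n, ρ n)`. -/
def sec {N : Subgroup G} (ρ : Representation ℂ N V) : N →* G × (V →ₗ[ℂ] V)ˣ :=
  MonoidHom.prod N.subtype (MonoidHom.toHomUnits ρ)

theorem sec_fst {N : Subgroup G} (ρ : Representation ℂ N V) (n : N) : (sec ρ n).1 = n := rfl

theorem sec_snd {N : Subgroup G} (ρ : Representation ℂ N V) (n : N) :
    ((sec ρ n).2 : V →ₗ[ℂ] V) = ρ n := rfl

theorem sec_mem_intGroup {N : Subgroup G} [N.Normal] (ρ : Representation ℂ N V) (n : N) :
    sec ρ n ∈ intGroup ρ := by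
  rw [mem_intGroup]
  intro m
  rw [sec_fst, sec_snd, ← map_mul, ← map_mul]
  congr 1
  apply Subtype.ext
  rw [Subgroup.coe_mul, Subgroup.coe_mul, MulAut.conjNormal_apply, inv_mul_cancel_right]

/-- Elements of `intGroup ρ` conjugate `sec ρ n` to `sec ρ (g n g⁻¹)`. -/
theorem conj_sec {N : Subgroup G} [N.Normal] (ρ : Representation ℂ N V)
    (x : G × (V →ₗ[ℂ] V)ˣ) (hx : x ∈ intGroup ρ) (n : N) :
    x * sec ρ n * x⁻¹ = sec ρ (MulAut.conjNormal x.1 n) := by
  refine Prod.ext ?_ (Units.ext ?_)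
  · show x.1 * (sec ρ n).1 * x.1⁻¹ = _
    rw [sec_fst, sec_fst, MulAut.conjNormal_apply]
  · show ((x.2 * (sec ρ n).2 * x.2⁻¹ : (V →ₗ[ℂ] V)ˣ) : V →ₗ[ℂ] V) = _
    rw [Units.val_mul, Units.val_mul, sec_snd, sec_snd, (mem_intGroup ρ x).1 hx n, mul_assoc,
      Units.mul_inv, mul_one]

/-- Elements of `intGroup ρ` over `1` are scalars. -/
theorem exists_scalar_of_fst_eq_one [FiniteDimensional ℂ V] {N : Subgroup G} [N.Normal]
    (ρ : Representation ℂ N V) (hρ : ρ.IsIrreducible)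
    (x : G × (V →ₗ[ℂ] V)ˣ) (hx : x ∈ intGroup ρ) (h1 : x.1 = 1) :
    ∃ c : ℂ, (x.2 : V →ₗ[ℂ] V) = c • (1 : V →ₗ[ℂ] V) := by
  apply exists_smul_of_commute ρ hρ
  intro n
  rw [(mem_intGroup ρ x).1 hx n, h1, map_one, MulAut.one_apply]

/-- **Character triple cover**: a finite group `Δ ≤ intGroup ρ` that projects onto `G` and
contains the pairs `(n, ρ n)`. Its kernel over `G` is central and acts by scalars
(`exists_scalar_of_fst_eq_one`), and `coverRep Δ` extends `ρ`. -/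
theorem exists_finite_cover [FiniteDimensional ℂ V] [Finite G] {N : Subgroup G} [hN : N.Normal]
    (ρ : Representation ℂ N V) (hρ : ρ.IsIrreducible)
    (hinv : ∀ (g : G) (n : N), ρ.character (MulAut.conjNormal g n) = ρ.character n) :
    ∃ Δ : Subgroup (G × (V →ₗ[ℂ] V)ˣ), Finite Δ ∧ Δ ≤ intGroup ρ ∧
      Function.Surjective (proj Δ) ∧ (∀ n, sec ρ n ∈ Δ) ∧ (proj Δ).ker ≤ Subgroup.center Δ := by
  have hV : Nontrivial V := ((LinearChar.isIrreducible_iff ρ).1 hρ).1
  set m := Nat.card N with hm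
  have hmpos : 0 < m := Nat.card_pos
  let D : (G × (V →ₗ[ℂ] V)ˣ) →* ℂˣ :=
    (Units.map (LinearMap.det : (V →ₗ[ℂ] V) →* ℂ)).comp (MonoidHom.snd G (V →ₗ[ℂ] V)ˣ)
  let P : (G × (V →ₗ[ℂ] V)ˣ) →* ℂˣ := (powMonoidHom m).comp D
  let Δ : Subgroup (G × (V →ₗ[ℂ] V)ˣ) := intGroup ρ ⊓ P.ker
  have hΔ : Δ ≤ intGroup ρ := inf_le_left
  have hker : ∀ x : Δ, x ∈ (proj Δ).ker → ∃ c : ℂ, (x.1.2 : V →ₗ[ℂ] V) = c • (1 : V →ₗ[ℂ] V) :=
    fun x hx => exists_scalar_of_fst_eq_one ρ hρ x.1 (hΔ x.2) hx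
  refine ⟨Δ, ?_, hΔ, ?_, ?_, ?_⟩
  · -- finiteness
    have hfin : Finite (proj Δ).ker := by
      have hroots : Finite (rootsOfUnity (finrank ℂ V * m) ℂ) := by
        have : NeZero (finrank ℂ V * m) := ⟨(Nat.mul_pos finrank_pos hmpos).ne'⟩
        infer_instance
      choose c hc using hker
      have hcpow : ∀ (x : Δ) (hx : x ∈ (proj Δ).ker), c x hx ^ (finrank ℂ V * m) = 1 := by
        intro x hx
        have h1 : P x.1 = 1 := x.2.2
        have h2 : (LinearMap.det (x.1.2 : V →ₗ[ℂ] V)) ^ m = 1 := congrArg Units.val h1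
        rw [hc x hx, LinearMap.det_smul, map_one, mul_one, ← pow_mul] at h2
        exact h2
      have : NeZero (finrank ℂ V * m) := ⟨(Nat.mul_pos finrank_pos hmpos).ne'⟩
      refine Finite.of_injective
        (fun x : (proj Δ).ker => (rootsOfUnity.mkOfPowEq (n := finrank ℂ V * m)
          (c x.1 x.2) (hcpow x.1 x.2))) ?_
      intro x y hxy
      have h3 : c x.1 x.2 = c y.1 y.2 := by
        have := congrArg (fun z : rootsOfUnity (finrank ℂ V * m) ℂ => ((z : ℂˣ) : ℂ)) hxy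
        simpa using this
      apply Subtype.ext
      apply Subtype.ext
      refine Prod.ext ?_ (Units.ext ?_)
      · exact (x.2 : proj Δ x.1 = 1).trans (y.2 : proj Δ y.1 = 1).symm
      · rw [hc x.1 x.2, hc y.1 y.2, h3]
    exact Finite.of_equiv _ (Subgroup.groupEquivQuotientProdSubgroup (s := (proj Δ).ker)).symm
  · intro g
    obtain ⟨T, hT, hTd⟩ := exists_mem_intGroup ρ hρ hinv g 1
    refine ⟨⟨(g, T), hT, ?_⟩, rfl⟩
    show (D (g, T)) ^ m = 1
    have : D (g, T) = 1 := Units.ext hTd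
    rw [this, one_pow]
  · intro n
    refine ⟨sec_mem_intGroup ρ n, ?_⟩
    show (D (sec ρ n)) ^ m = 1
    rw [← map_pow, ← map_pow, hm, pow_card_eq_one', map_one, map_one]
  · intro x hx
    obtain ⟨c, hc⟩ := hker x hx
    rw [Subgroup.mem_center_iff]
    intro y
    apply Subtype.ext
    refine Prod.ext ?_ (Units.ext ?_)
    · show y.1.1 * x.1.1 = x.1.1 * y.1.1
      have : x.1.1 = 1 := hx
      rw [this, mul_one, one_mul]
    · show ((y.1.2 * x.1.2 : (V →ₗ[ℂ] V)ˣ) : V →ₗ[ℂ] V) = ((x.1.2 * y.1.2 : (V →ₗ[ℂ] V)ˣ) : _)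
      rw [Units.val_mul, Units.val_mul, hc, smul_mul_assoc, mul_smul_comm, one_mul, mul_one]

end Cfsg.Agent.CharDeep.TripleCover
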