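import Mathlib
import Cfsg.Prelude.Def_Characters
import Cfsg.Prelude.Def_CharExt
import Cfsg.Agent.CharDeep.LinearChar
import Cfsg.Agent.CharDeep.SameChar

/-!
# Twisting a representation with a linear character; two extensions of the same representation
-/

set_option autoImplicit false

namespace Cfsg.Agent.CharDeep.Twist

open Cfsg Cfsg.Agent.CharDeep.LinearChar Cfsg.Agent.CharDeep.SameChar

section twist

variable {G : Type*} [Group G] {V : Type*} [AddCommGroup V] [Module ℂ V]

/-- The representation `ρ` multiplied by the linear character `f`. -/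
def twist (f : G →* ℂˣ) (ρ : Representation ℂ G V) : Representation ℂ G V where
  toFun g := (f g : ℂ) • ρ g
  map_one' := by simp
  map_mul' g h := by simp [smul_smul, mul_comm]

theorem twist_apply (f : G →* ℂˣ) (ρ : Representation ℂ G V) (g : G) :
    twist f ρ g = (f g : ℂ) • ρ g := rfl

theorem twist_character (f : G →* ℂˣ) (ρ : Representation ℂ G V) (g : G) :
    (twist f ρ).character g = (f g : ℂ) * ρ.character g := by
  show LinearMap.trace ℂ V ((f g : ℂ) • ρ g) = _
  rw [map_smul]
  rfl

theorem twist_irreducible (f : G →* ℂˣ) (ρ : Representation ℂ G V) (h : ρ.IsIrreducible) :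
    (twist f ρ).IsIrreducible := by
  rw [isIrreducible_iff] at h ⊢
  refine ⟨h.1, fun W hW => h.2 W fun g v hv => ?_⟩
  have h1 := W.smul_mem ((f g : ℂ)⁻¹) (hW g v hv)
  rw [twist_apply, LinearMap.smul_apply, smul_smul, inv_mul_cancel₀ (Units.ne_zero _),
    one_smul] at h1
  exact h1

theorem twist_det [FiniteDimensional ℂ V] (f : G →* ℂˣ) (ρ : Representation ℂ G V) (g : G) :
    LinearMap.det (twist f ρ g) = (f g : ℂ) ^ Module.finrank ℂ V * LinearMap.det (ρ g) := by
  rw [twist_apply, LinearMap.det_smul]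

/-- The determinant of a representation as a homomorphism to the units. -/
noncomputable def detHom (ρ : Representation ℂ G V) : G →* ℂˣ :=
  MonoidHom.toHomUnits ((LinearMap.det : (V →ₗ[ℂ] V) →* ℂ).comp ρ)

theorem detHom_apply (ρ : Representation ℂ G V) (g : G) :
    (detHom ρ g : ℂ) = LinearMap.det (ρ g) := rfl

end twist

/-- A homomorphism to a commutative group trivial on a normal subgroup of finite index has
exponent dividing the index. -/
theorem pow_index_eq_one {G A : Type*} [Group G] [CommGroup A] (N : Subgroup G) [N.Normal]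
    (f : G →* A) (hf : ∀ n : N, f n = 1) (g : G) : f g ^ N.index = 1 := by
  rw [← map_pow]
  exact hf ⟨g ^ N.index, N.pow_index_mem g⟩

/-- Two irreducible representations of `G` whose restrictions to a normal subgroup `N` are
irreducible with the same character differ elementwise by scalars of order dividing the index. -/
theorem exists_scalar {G : Type*} [Group G] [Finite G] (N : Subgroup G) [hN : N.Normal]
    {V W : Type*} [AddCommGroup V] [Module ℂ V] [FiniteDimensional ℂ V]
    [AddCommGroup W] [Module ℂ W] [FiniteDimensional ℂ W]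
    (ρ : Representation ℂ G V) (σ : Representation ℂ G W)
    (hρ : Representation.IsIrreducible (ρ.comp N.subtype))
    (h : ∀ n : N, σ.character n = ρ.character n) :
    ∃ e : V ≃ₗ[ℂ] W, ∀ g, ∃ z : ℂ, z ^ N.index = 1 ∧ ∀ v, σ g (e v) = z • e (ρ g v) := by
  obtain ⟨e, he⟩ := exists_linearEquiv (ρ.comp N.subtype) (σ.comp N.subtype) hρ (funext h)
  refine ⟨e, ?_⟩
  have he' : ∀ (n : G) (hn : n ∈ N) (v : V), e (ρ n v) = σ n (e v) := fun n hn v => he ⟨n, hn⟩ v
  have key : ∀ g, ∃ z : ℂ, ∀ v, σ g (e v) = z • e (ρ g v) := by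
    intro g
    obtain ⟨z, hz⟩ := exists_smul_of_commute (ρ.comp N.subtype) hρ
      ((ρ g⁻¹) ∘ₗ (e.symm : W →ₗ[ℂ] V) ∘ₗ (σ g) ∘ₗ (e : V →ₗ[ℂ] W)) (by
        rintro ⟨n, hn⟩ v
        show ρ g⁻¹ (e.symm (σ g (e (ρ n v)))) = ρ n (ρ g⁻¹ (e.symm (σ g (e v))))
        rw [he' n hn]
        have h1 : σ g (σ n (e v)) = σ (g * n * g⁻¹) (σ g (e v)) := by
          rw [← Module.End.mul_apply, ← Module.End.mul_apply, ← map_mul, ← map_mul]
          congr 2
          group
        rw [h1]
        have h2 : e.symm (σ (g * n * g⁻¹) (σ g (e v))) =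
            ρ (g * n * g⁻¹) (e.symm (σ g (e v))) := by
          apply e.injective
          rw [he' _ (hN.conj_mem n hn g), e.apply_symm_apply, e.apply_symm_apply]
        rw [h2, ← Module.End.mul_apply, ← Module.End.mul_apply, ← map_mul, ← map_mul]
        congr 2
        group)
    refine ⟨z, fun v => ?_⟩
    have h3 := LinearMap.congr_fun hz v
    change ρ g⁻¹ (e.symm (σ g (e v))) = z • v at h3
    have h4 := congrArg (fun w => e (ρ g w)) h3
    change e (ρ g (ρ g⁻¹ (e.symm (σ g (e v))))) = e (ρ g (z • v)) at h4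
    rw [← Module.End.mul_apply, ← map_mul, mul_inv_cancel, map_one, Module.End.one_apply,
      e.apply_symm_apply] at h4
    rw [h4, map_smul, map_smul]
  intro g
  obtain ⟨z, hz⟩ := key g
  refine ⟨z, ?_, hz⟩
  have hpow : ∀ k : ℕ, ∀ v, σ (g ^ k) (e v) = z ^ k • e (ρ (g ^ k) v) := by
    intro k
    induction k with
    | zero => intro v; simp
    | succ k ih =>
      intro v
      rw [pow_succ, map_mul, Module.End.mul_apply, hz, map_smul, ih, map_mul,
        Module.End.mul_apply, smul_smul, mul_comm, ← pow_succ]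
  have : Nontrivial V := ((isIrreducible_iff _).1 hρ).1
  obtain ⟨v, hv⟩ := exists_ne (0 : V)
  have h5 := hpow N.index v
  rw [← he' _ (N.pow_index_mem g)] at h5
  have h6 : e (ρ (g ^ N.index) v) ≠ 0 := by
    rw [Ne, LinearEquiv.map_eq_zero_iff]
    intro h7
    apply hv
    have h8 : ρ (g ^ N.index)⁻¹ (ρ (g ^ N.index) v) = v := by
      rw [← Module.End.mul_apply, ← map_mul, inv_mul_cancel, map_one, Module.End.one_apply]
    rw [← h8, h7, map_zero]
  by_contra hne
  apply h6
  have h9 : (1 - z ^ N.index) • e (ρ (g ^ N.index) v) = 0 := by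
    rw [sub_smul, one_smul, ← h5, sub_self]
  rcases smul_eq_zero.1 h9 with h10 | h10
  · exact absurd (sub_eq_zero.1 h10).symm hne
  · exact h10

end Cfsg.Agent.CharDeep.Twist
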